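import Cfsg.Agent.H354.Fac.Gour
import Cfsg.Agent.H257.El.Top

/-!
# Fusion in a Sylow `p`-subgroup of order `p ^ 2` and factorizations (helper354, S3679)

`T = A M`, `A ≅ S × S`, `p ^ 2 ∤ |M|`, `p ^ 3 ∤ |T|`.

* `gp` : every `T`-conjugate of `x ∈ A ∩ M` (of order `p`) inside `A` is `A`-conjugate to a power of `x`;
* `Fuse Q` : every `x ∈ Q` is conjugate to an element of `Q` outside `⟨x⟩`;
* `not_factor` : with `Fuse`, `M` contains no element of order `p` of a factor of `A`;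
* `dg_of_fac` : with `Fuse` and `C(Q) ≤ Q`: `A ∩ M` satisfies `Dg`.
-/

set_option autoImplicit false
set_option maxRecDepth 100000

namespace Cfsg.Agent.H354.Fac

open Subgroup
open Cfsg.Agent.H899.CG
open Cfsg.Agent.H537.Cop (SC)
open Cfsg.Agent.H257.El (conj_of_cyclic cyclic_of_sq)

section

variable {T : Type*} [Group T]

/-- two independent commuting elements of order `p` -/
structure Pr (T : Type*) [Group T] (p : ℕ) (a b : T) : Prop where
  oa : orderOf a = p
  ob : orderOf b = p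
  comm : a * b = b * a
  nmem : b ∉ zpowers a

/-- the subgroup generated by the two elements -/
def Q (a b : T) : Subgroup T := zpowers a ⊔ zpowers b

/-- every element of `Q` is conjugate to an element of `Q` outside the subgroup it generates -/
def Fuse (Q : Subgroup T) : Prop := ∀ x ∈ Q, x ≠ 1 → ∃ w : T, w * x * w⁻¹ ∈ Q ∧ w * x * w⁻¹ ∉ zpowers x

theorem mem_Q {a b x : T} (h : a * b = b * a) : x ∈ Q a b ↔ ∃ i j : ℤ, x = a ^ i * b ^ j := by
  have hc : Commute a b := h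
  constructor
  · intro hx
    rw [Q, zpowers_eq_closure, zpowers_eq_closure, ← Subgroup.closure_union] at hx
    induction hx using Subgroup.closure_induction with
    | mem y hy =>
      rcases hy with hy | hy
      · rw [Set.mem_singleton_iff] at hy
        exact ⟨1, 0, by simp [hy]⟩
      · rw [Set.mem_singleton_iff] at hy
        exact ⟨0, 1, by simp [hy]⟩
    | one => exact ⟨0, 0, by simp⟩
    | mul y z _ _ hy hz =>
      obtain ⟨i, j, rfl⟩ := hy
      obtain ⟨k, l, rfl⟩ := hz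
      refine ⟨i + k, j + l, ?_⟩
      rw [zpow_add, zpow_add]
      calc a ^ i * b ^ j * (a ^ k * b ^ l) = a ^ i * (b ^ j * a ^ k) * b ^ l := by group
        _ = a ^ i * (a ^ k * b ^ j) * b ^ l := by rw [((hc.zpow_left k).zpow_right j).eq]
        _ = _ := by group
    | inv y _ hy =>
      obtain ⟨i, j, rfl⟩ := hy
      refine ⟨-i, -j, ?_⟩
      rw [mul_inv_rev, zpow_neg, zpow_neg]
      exact ((hc.zpow_left i).zpow_right j).symm.inv_inv.eq
  · rintro ⟨i, j, rfl⟩
    exact mul_mem (mem_sup_left (zpow_mem (mem_zpowers a) i)) (mem_sup_right (zpow_mem (mem_zpowers b) j))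

variable {p : ℕ} {a b : T}

/-- independence -/
theorem Pr.indep (hp : p.Prime) (h : Pr T p a b) {i j : ℤ} (hij : a ^ i * b ^ j = 1) : (p : ℤ) ∣ i ∧ (p : ℤ) ∣ j := by
  have h1 : (p : ℤ) ∣ j := by
    by_contra hj
    apply h.nmem
    have hcop : IsCoprime (p : ℤ) j := ((Nat.prime_iff_prime_int.1 hp).coprime_iff_not_dvd).2 hj
    obtain ⟨u, v, huv⟩ := hcop
    have h2 : b = (b ^ j) ^ v := by
      have h3 : b ^ ((p : ℤ)) = 1 := by rw [zpow_natCast, ← h.ob, pow_orderOf_eq_one]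
      calc b = b ^ (u * (p : ℤ) + v * j) := by rw [huv, zpow_one]
        _ = (b ^ j) ^ v := by
          rw [zpow_add, mul_comm u, zpow_mul, h3, one_zpow, one_mul, mul_comm v, zpow_mul]
    rw [h2]
    apply zpow_mem
    have h4 : b ^ j = a ^ (-i) := by
      rw [zpow_neg]
      exact (inv_eq_of_mul_eq_one_right hij).symm
    rw [h4]
    exact zpow_mem (mem_zpowers a) _
  refine ⟨?_, h1⟩
  have h2 : b ^ j = 1 := by
    rw [← orderOf_dvd_iff_zpow_eq_one, h.ob]
    exact h1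
  rw [h2, mul_one, ← orderOf_dvd_iff_zpow_eq_one, h.oa] at hij
  exact hij

theorem Pr.card (hp : p.Prime) (h : Pr T p a b) : Nat.card (Q a b) = p ^ 2 := by
  have ha : 0 < orderOf a := by rw [h.oa]; exact hp.pos
  have hb : 0 < orderOf b := by rw [h.ob]; exact hp.pos
  let φ : zpowers a × zpowers b →* T := MonoidHom.noncommCoprod (zpowers a).subtype (zpowers b).subtype
    (by
      rintro ⟨x, hx⟩ ⟨y, hy⟩
      obtain ⟨i, rfl⟩ := mem_zpowers_iff.1 hx
      obtain ⟨j, rfl⟩ := mem_zpowers_iff.1 hy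
      exact (Commute.zpow_left (h.comm : Commute a b) i).zpow_right j)
  have hφ : Function.Injective φ := by
    rw [injective_iff_map_eq_one]
    rintro ⟨⟨x, hx⟩, ⟨y, hy⟩⟩ hxy
    obtain ⟨i, rfl⟩ := mem_zpowers_iff.1 hx
    obtain ⟨j, rfl⟩ := mem_zpowers_iff.1 hy
    obtain ⟨h1, h2⟩ := h.indep hp (show a ^ i * b ^ j = 1 from hxy)
    have h3 : a ^ i = 1 := by rw [← orderOf_dvd_iff_zpow_eq_one, h.oa]; exact h1
    have h4 : b ^ j = 1 := by rw [← orderOf_dvd_iff_zpow_eq_one, h.ob]; exact h2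
    simp only [h3, h4]
    rfl
  have hr : φ.range = Q a b := by
    ext x
    rw [mem_Q h.comm]
    constructor
    · rintro ⟨⟨⟨x, hx⟩, ⟨y, hy⟩⟩, rfl⟩
      obtain ⟨i, rfl⟩ := mem_zpowers_iff.1 hx
      obtain ⟨j, rfl⟩ := mem_zpowers_iff.1 hy
      exact ⟨i, j, rfl⟩
    · rintro ⟨i, j, rfl⟩
      exact ⟨(⟨a ^ i, zpow_mem (mem_zpowers a) i⟩, ⟨b ^ j, zpow_mem (mem_zpowers b) j⟩), rfl⟩
  rw [← hr, ← Nat.card_congr (φ.ofInjective hφ).toEquiv, Nat.card_prod, Nat.card_zpowers, Nat.card_zpowers, h.oa, h.ob,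
    pow_two]

/-- **fusion from a swap and an element centralizing `a`** -/
theorem fuse_of (hp : p.Prime) (h : Pr T p a b) {s c : T} {g : ℤ} (hs : s * a * s⁻¹ = b) (hc1 : c * a * c⁻¹ = a)
    (hc2 : c * b * c⁻¹ = b ^ g) (hg : ¬ (p : ℤ) ∣ g - 1) : Fuse (Q a b) := by
  have hpz : Prime (p : ℤ) := Nat.prime_iff_prime_int.1 hp
  have conj_zpow : ∀ (w y : T) (k : ℤ), w * y ^ k * w⁻¹ = (w * y * w⁻¹) ^ k := fun w y k => (conj_zpow).symm
  intro x hx hx1
  obtain ⟨i, j, rfl⟩ := (mem_Q h.comm).1 hx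
  by_cases hj : (p : ℤ) ∣ j
  · have hbj : b ^ j = 1 := by rw [← orderOf_dvd_iff_zpow_eq_one, h.ob]; exact hj
    rw [hbj, mul_one] at hx1 ⊢
    refine ⟨s, ?_, ?_⟩
    · rw [conj_zpow, hs]
      exact (mem_Q h.comm).2 ⟨0, i, by simp⟩
    · rw [conj_zpow, hs]
      intro hm
      obtain ⟨k, hk⟩ := mem_zpowers_iff.1 hm
      have h1 : a ^ (i * k) * b ^ (-i) = 1 := by
        rw [zpow_neg, zpow_mul, hk, mul_inv_cancel]
      have h2 := (h.indep hp h1).2
      apply hx1
      rw [← orderOf_dvd_iff_zpow_eq_one, h.oa]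
      exact (dvd_neg.1 h2)
  · by_cases hi : (p : ℤ) ∣ i
    · have hai : a ^ i = 1 := by rw [← orderOf_dvd_iff_zpow_eq_one, h.oa]; exact hi
      rw [hai, one_mul] at hx1 ⊢
      have hs' : s⁻¹ * b * s⁻¹⁻¹ = a := by
        rw [← hs]
        group
      refine ⟨s⁻¹, ?_, ?_⟩
      · rw [conj_zpow, hs']
        exact (mem_Q h.comm).2 ⟨j, 0, by simp⟩
      · rw [conj_zpow, hs']
        intro hm
        obtain ⟨k, hk⟩ := mem_zpowers_iff.1 hm
        have h1 : a ^ (-j) * b ^ (j * k) = 1 := by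
          rw [zpow_neg, zpow_mul, hk, inv_mul_cancel]
        exact hj (dvd_neg.1 (h.indep hp h1).1)
    · have hcx : c * (a ^ i * b ^ j) * c⁻¹ = a ^ i * b ^ (g * j) := by
        calc c * (a ^ i * b ^ j) * c⁻¹ = (c * a ^ i * c⁻¹) * (c * b ^ j * c⁻¹) := by group
          _ = _ := by rw [conj_zpow, conj_zpow, hc1, hc2, zpow_mul]
      refine ⟨c, ?_, ?_⟩
      · rw [hcx]
        exact (mem_Q h.comm).2 ⟨i, g * j, rfl⟩
      · rw [hcx]
        intro hm
        obtain ⟨k, hk⟩ := mem_zpowers_iff.1 hm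
        have hcm : Commute a b := h.comm
        have h1 : (a ^ i * b ^ j) ^ k = a ^ (i * k) * b ^ (j * k) := by
          rw [((hcm.zpow_left i).zpow_right j).mul_zpow, zpow_mul, zpow_mul]
        rw [h1] at hk
        have h2 : a ^ (i * k - i) * b ^ (j * k - g * j) = 1 := by
          rw [zpow_sub, zpow_sub]
          have h3 : (a ^ i)⁻¹ * b ^ (j * k) = b ^ (j * k) * (a ^ i)⁻¹ :=
            ((hcm.zpow_left i).zpow_right (j * k)).inv_left.eq
          calc a ^ (i * k) * (a ^ i)⁻¹ * (b ^ (j * k) * (b ^ (g * j))⁻¹)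
              = a ^ (i * k) * ((a ^ i)⁻¹ * b ^ (j * k)) * (b ^ (g * j))⁻¹ := by group
            _ = (a ^ (i * k) * b ^ (j * k)) * ((a ^ i)⁻¹ * (b ^ (g * j))⁻¹) := by rw [h3]; group
            _ = (a ^ (i * k) * b ^ (j * k)) * (a ^ i * b ^ (g * j))⁻¹ := by
                rw [mul_inv_rev, ((hcm.zpow_left i).zpow_right (g * j)).inv_inv.eq]
            _ = 1 := by rw [hk, mul_inv_cancel]
        obtain ⟨h3, h4⟩ := h.indep hp h2
        have h5 : (p : ℤ) ∣ i * (k - 1) := by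
          have : i * (k - 1) = i * k - i := by ring
          rw [this]; exact h3
        have h6 : (p : ℤ) ∣ j * (k - g) := by
          have : j * (k - g) = j * k - g * j := by ring
          rw [this]; exact h4
        have h7 := (hpz.dvd_or_dvd h5).resolve_left hi
        have h8 := (hpz.dvd_or_dvd h6).resolve_left hj
        apply hg
        have : g - 1 = (k - 1) - (k - g) := by ring
        rw [this]
        exact dvd_sub h7 h8

/-- **the conjugacy form of the Sylow argument** -/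
theorem gp [Finite T] {A M : Subgroup T} (hfac : ∀ t : T, ∃ x ∈ A, ∃ y ∈ M, t = x * y) [hp : Fact p.Prime] {x : T}
    (hxA : x ∈ A) (hxM : x ∈ M) (hx : orderOf x = p) (hpM : ¬ p ^ 2 ∣ Nat.card M) {t : T} (ht : t * x * t⁻¹ ∈ A) :
    ∃ c ∈ A, c * (t * x * t⁻¹) * c⁻¹ ∈ zpowers x := by
  obtain ⟨y, hy, m, hm, rfl⟩ := hfac t
  have h1 : m * x * m⁻¹ ∈ A := by
    have h2 := A.mul_mem (A.mul_mem (A.inv_mem hy) ht) hy
    have h3 : y⁻¹ * (y * m * x * (y * m)⁻¹) * y = m * x * m⁻¹ := by group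
    rwa [h3] at h2
  have h2 : m * x * m⁻¹ ∈ M := M.mul_mem (M.mul_mem hm hxM) (M.inv_mem hm)
  have hH : ¬ p ^ 2 ∣ Nat.card (A ⊓ M : Subgroup T) := fun hd => hpM (hd.trans (Subgroup.card_dvd_of_le inf_le_right))
  let u : (A ⊓ M : Subgroup T) := ⟨x, hxA, hxM⟩
  let v : (A ⊓ M : Subgroup T) := ⟨m * x * m⁻¹, h1, h2⟩
  have hu : orderOf u = p := (Subgroup.orderOf_mk x _).trans hx
  have hv : orderOf v = p := (Subgroup.orderOf_mk (m * x * m⁻¹) _).trans
    ((orderOf_injective (MulAut.conj m).toMonoidHom (MulAut.conj m).injective x).trans hx)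
  obtain ⟨g, hg⟩ := conj_of_cyclic (fun S => cyclic_of_sq hH S) hu hv
  refine ⟨(g : T) * y⁻¹, A.mul_mem g.2.1 (A.inv_mem hy), ?_⟩
  have h3 : (g : T) * y⁻¹ * (y * m * x * (y * m)⁻¹) * ((g : T) * y⁻¹)⁻¹ = (g : T) * (m * x * m⁻¹) * (g : T)⁻¹ := by group
  rw [h3]
  obtain ⟨k, hk⟩ := mem_zpowers_iff.1 hg
  exact mem_zpowers_iff.2 ⟨k, congrArg Subtype.val hk⟩

/-- two subgroups of order `p ^ 2` -/
theorem exists_conj [Finite T] [hp : Fact p.Prime] (h3 : ¬ p ^ 3 ∣ Nat.card T) {P P' : Subgroup T}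
    (hP : Nat.card P = p ^ 2) (hP' : Nat.card P' = p ^ 2) : ∃ t : T, P.map (MulAut.conj t).toMonoidHom = P' := by
  have hS : ∀ R : Subgroup T, Nat.card R = p ^ 2 → ∃ S : Sylow p T, (S : Subgroup T) = R := by
    intro R hR
    obtain ⟨S, hS⟩ := (IsPGroup.of_card hR).exists_le_sylow
    refine ⟨S, (Subgroup.eq_of_le_of_card_ge hS ?_).symm⟩
    obtain ⟨k, hk⟩ := IsPGroup.iff_card.1 S.isPGroup'
    rw [hR]
    rw [hk]
    apply Nat.pow_le_pow_right hp.out.pos
    by_contra hlt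
    exact h3 ((pow_dvd_pow p (by omega : 3 ≤ k)).trans (hk ▸ Subgroup.card_subgroup_dvd_card (S : Subgroup T)))
  obtain ⟨S, rfl⟩ := hS P hP
  obtain ⟨S', rfl⟩ := hS P' hP'
  obtain ⟨t, ht⟩ := MulAction.exists_smul_eq T S S'
  exact ⟨t, by rw [← ht]; rfl⟩

variable {S : Type*} [Group S] {A M : Subgroup T} {φ : S × S →* T}

theorem pr_of (hφ : Function.Injective φ) (hp : p.Prime) {x y : S} (hx : orderOf x = p) (hy : orderOf y = p) :
    Pr T p (φ (x, 1)) (φ (1, y)) := by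
  refine ⟨?_, ?_, ?_, ?_⟩
  · rw [orderOf_injective φ hφ, ← hx]
    exact orderOf_injective (MonoidHom.inl S S) (fun a b h => congrArg Prod.fst h) x
  · rw [orderOf_injective φ hφ, ← hy]
    exact orderOf_injective (MonoidHom.inr S S) (fun a b h => congrArg Prod.snd h) y
  · rw [← map_mul, ← map_mul]
    congr 1
    exact Prod.ext (by simp) (by simp)
  · intro h
    obtain ⟨k, hk⟩ := mem_zpowers_iff.1 h
    rw [← map_zpow] at hk
    have h1 := congrArg Prod.snd (hφ hk)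
    have h2 : (1 : S) = y := by simpa using h1
    rw [← h2, orderOf_one] at hy
    exact hp.one_lt.ne hy

/-- **`M` contains no element of order `p` of the first factor** -/
theorem not_factor [Finite T] (hφ : Function.Injective φ) (hr : φ.range = A)
    (hfac : ∀ t : T, ∃ x ∈ A, ∃ y ∈ M, t = x * y) [hp : Fact p.Prime] (hab : Pr T p a b) (h3 : ¬ p ^ 3 ∣ Nat.card T)
    (hf : Fuse (Q a b)) (hpM : ¬ p ^ 2 ∣ Nat.card M) {x : S} (hx : orderOf x = p) : φ (x, 1) ∉ M := by
  intro hxM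
  have hpr := pr_of hφ hp.out hx hx
  obtain ⟨t, ht⟩ := exists_conj h3 (hpr.card hp.out) (hab.card hp.out)
  set x' := φ (x, 1) with hx'
  set y' := φ (1, x) with hy'
  have hQ : ∀ z, z ∈ Q x' y' ↔ t * z * t⁻¹ ∈ Q a b := by
    intro z
    rw [← ht]
    constructor
    · intro hz
      exact ⟨z, hz, rfl⟩
    · rintro ⟨z', hz', h⟩
      have : z' = z := (MulAut.conj t).injective h
      rwa [← this]
  have hx1 : t * x' * t⁻¹ ≠ 1 := by
    intro h
    have h1 : x' = 1 := by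
      have : x' = t⁻¹ * (t * x' * t⁻¹) * t := by group
      rw [this, h]
      group
    have h2 := hpr.oa
    rw [h1, orderOf_one] at h2
    exact hp.out.one_lt.ne h2
  obtain ⟨w, hw1, hw2⟩ := hf (t * x' * t⁻¹) ((hQ x').1 (mem_sup_left (mem_zpowers x'))) hx1
  set t1 := t⁻¹ * w * t with ht1
  have hv : t1 * x' * t1⁻¹ ∈ Q x' y' := by
    rw [hQ]
    have : t * (t1 * x' * t1⁻¹) * t⁻¹ = w * (t * x' * t⁻¹) * w⁻¹ := by rw [ht1]; group
    rwa [this]
  have hAx : x' ∈ A := by rw [← hr]; exact ⟨_, rfl⟩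
  have hAy : y' ∈ A := by rw [← hr]; exact ⟨_, rfl⟩
  obtain ⟨i, j, hij⟩ := (mem_Q hpr.comm).1 hv
  obtain ⟨c, hcA, hc⟩ := gp hfac hAx hxM hpr.oa hpM (t := t1) (by
    rw [hij]
    exact A.mul_mem (A.zpow_mem hAx i) (A.zpow_mem hAy j))
  rw [← hr] at hcA
  obtain ⟨⟨c1, c2⟩, rfl⟩ := hcA
  rw [hij] at hc
  obtain ⟨k, hk⟩ := mem_zpowers_iff.1 hc
  rw [hx', hy', ← map_zpow, ← map_zpow, ← map_zpow, ← map_inv, ← map_mul, ← map_mul, ← map_mul] at hk
  have h4 := congrArg Prod.snd (hφ hk)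
  have h5 : (1 : S) = c2 * x ^ j * c2⁻¹ := by simpa using h4
  have h6 : x ^ j = 1 := by
    have : x ^ j = c2⁻¹ * (c2 * x ^ j * c2⁻¹) * c2 := by group
    rw [this, ← h5]
    group
  have h7 : y' ^ j = 1 := by
    rw [hy', ← map_zpow]
    have : ((1 : S), x) ^ j = 1 := Prod.ext (by simp) (by simpa using h6)
    rw [this, map_one]
  rw [h7, mul_one] at hij
  apply hw2
  have h8 : w * (t * x' * t⁻¹) * w⁻¹ = (t * x' * t⁻¹) ^ i := by
    rw [conj_zpow, ← hij, ht1]
    group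
  rw [h8]
  exact zpow_mem (mem_zpowers _) i

/-- elements of order `p` of `S` are self-centralizing -/
theorem sc_of [Finite T] [Finite S] (hφ : Function.Injective φ) [hp : Fact p.Prime] (hab : Pr T p a b)
    (h3 : ¬ p ^ 3 ∣ Nat.card T) (hc : ∀ z : T, z * a = a * z → z * b = b * z → z ∈ Q a b) : SC p S := by
  intro x hx
  have hpr := pr_of hφ hp.out hx hx
  obtain ⟨t, ht⟩ := exists_conj h3 (hpr.card hp.out) (hab.card hp.out)
  have hle : centralizer ({x} : Set S) ≤ zpowers x := by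
    intro z hz
    rw [mem_centralizer_singleton_iff] at hz
    have h1 : ∀ y ∈ Q (φ (x, 1)) (φ (1, x)), φ (z, 1) * y = y * φ (z, 1) := by
      intro y hy
      obtain ⟨i, j, rfl⟩ := (mem_Q hpr.comm).1 hy
      rw [← map_zpow, ← map_zpow, ← map_mul, ← map_mul, ← map_mul]
      congr 1
      have h2 : Commute z x := hz
      exact Prod.ext (by simpa using (h2.zpow_right i).eq) (by simp)
    have h2 : ∀ y ∈ Q a b, (t * φ (z, 1) * t⁻¹) * y = y * (t * φ (z, 1) * t⁻¹) := by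
      intro y hy
      rw [← ht] at hy
      obtain ⟨y', hy', rfl⟩ := hy
      change (t * φ (z, 1) * t⁻¹) * (t * y' * t⁻¹) = (t * y' * t⁻¹) * (t * φ (z, 1) * t⁻¹)
      calc (t * φ (z, 1) * t⁻¹) * (t * y' * t⁻¹) = t * (φ (z, 1) * y') * t⁻¹ := by group
        _ = t * (y' * φ (z, 1)) * t⁻¹ := by rw [h1 y' hy']
        _ = _ := by group
    have h4 := hc _ (h2 a (mem_sup_left (mem_zpowers a))) (h2 b (mem_sup_right (mem_zpowers b)))
    rw [← ht] at h4
    obtain ⟨y', hy', h5⟩ := h4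
    have h6 : y' = φ (z, 1) := (MulAut.conj t).injective h5
    rw [h6] at hy'
    obtain ⟨i, j, hij⟩ := (mem_Q hpr.comm).1 hy'
    rw [← map_zpow, ← map_zpow, ← map_mul] at hij
    have h7 := congrArg Prod.fst (hφ hij)
    have h8 : z = x ^ i := by simpa using h7
    rw [h8]
    exact zpow_mem (mem_zpowers x) i
  have h1 : centralizer ({x} : Set S) = zpowers x := le_antisymm hle (by
    rw [zpowers_le, mem_centralizer_singleton_iff])
  rw [h1, Nat.card_zpowers, hx]

/-- **the reduction** -/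
theorem dg_of_fac [Finite T] [Finite S] (hφ : Function.Injective φ) (hr : φ.range = A)
    (hfac : ∀ t : T, ∃ x ∈ A, ∃ y ∈ M, t = x * y) [hp : Fact p.Prime] (hab : Pr T p a b) (h3 : ¬ p ^ 3 ∣ Nat.card T)
    (hf : Fuse (Q a b)) (hc : ∀ z : T, z * a = a * z → z * b = b * z → z ∈ Q a b)
    (hpM : ¬ p ^ 2 ∣ Nat.card M) (hpH : p ∣ Nat.card (M.comap φ)) : Dg S p (M.comap φ) := by
  refine ⟨hp.out, sc_of hφ hab h3 hc, hpH, fun hd => ?_, fun hd => ?_⟩
  · obtain ⟨x, hx⟩ := exists_prime_orderOf_dvd_card' (G := K1 (M.comap φ)) p hd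
    exact not_factor hφ hr hfac hab h3 hf hpM (x := (x : S)) (by rw [Subgroup.orderOf_coe, hx]) x.2
  · obtain ⟨x, hx⟩ := exists_prime_orderOf_dvd_card' (G := K2 (M.comap φ)) p hd
    let ψ : S × S →* T := φ.comp (MulEquiv.prodComm (M := S) (N := S)).toMonoidHom
    have hψ : Function.Injective ψ := hφ.comp (MulEquiv.prodComm (M := S) (N := S)).injective
    have hψr : ψ.range = A := by
      rw [← hr]
      ext z
      constructor
      · rintro ⟨y, rfl⟩
        exact ⟨_, rfl⟩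
      · rintro ⟨⟨y1, y2⟩, rfl⟩
        exact ⟨(y2, y1), rfl⟩
    exact not_factor hψ hψr hfac hab h3 hf hpM (x := (x : S)) (by rw [Subgroup.orderOf_coe, hx]) x.2

/-- the map from `S × S` onto `A` -/
theorem exists_phi {T : Type*} [Group T] {A M : Subgroup T} {S : Type*} [Group S] (h : Fac T A M S 2) :
    ∃ φ : S × S →* T, Function.Injective φ ∧ φ.range = A := by
  obtain ⟨e⟩ := h.iso
  let ψ : S × S →* (Fin 2 → S) :=
    { toFun := fun x => ![x.1, x.2]
      map_one' := by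
        funext i
        fin_cases i <;> rfl
      map_mul' := fun x y => by
        funext i
        fin_cases i <;> rfl }
  have hψ : Function.Bijective ψ := by
    constructor
    · intro x y hxy
      exact Prod.ext (congrFun hxy 0) (congrFun hxy 1)
    · intro f
      refine ⟨(f 0, f 1), ?_⟩
      funext i
      fin_cases i <;> rfl
  refine ⟨A.subtype.comp (e.symm.toMonoidHom.comp ψ),
    A.subtype_injective.comp (e.symm.injective.comp hψ.1), ?_⟩
  ext z
  constructor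
  · rintro ⟨x, rfl⟩
    exact SetLike.coe_mem _
  · intro hz
    obtain ⟨x, hx⟩ := hψ.2 (e ⟨z, hz⟩)
    refine ⟨x, ?_⟩
    change ((e.symm (ψ x) : A) : T) = z
    rw [hx, MulEquiv.symm_apply_apply]

/-- the order of `M ∩ A` -/
theorem card_comap {T : Type*} [Group T] [Finite T] {A M : Subgroup T} {S : Type*} [Group S] [Finite S]
    (h : Fac T A M S 2) {φ : S × S →* T} (hφ : Function.Injective φ) (hr : φ.range = A) :
    M.index * Nat.card (M.comap φ) = Nat.card S ^ 2 := by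
  have h1 := h.card_mul
  have h2 : Nat.card (M.comap φ) = Nat.card (A ⊓ M : Subgroup T) := by
    have h3 : (M.comap φ).map φ = A ⊓ M := by
      rw [Subgroup.map_comap_eq, hr]
    rw [← h3, Subgroup.card_map_of_injective hφ]
  rw [h2]
  have h4 := Subgroup.card_mul_index M
  have h5 : 0 < Nat.card M := Nat.card_pos
  apply Nat.eq_of_mul_eq_mul_left h5
  rw [← mul_assoc, h4, h1, h.card_eq]
  ring

end

end Cfsg.Agent.H354.Fac
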