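import Cfsg.Agent.H354.Fac.Basic
import Cfsg.Agent.H94.CopHN

/-!
# `NoFac` for `HN` (helper354, S3679)

The coatom `M` has a section `J1` with `O(M)` of order prime to 2 and 5, hence `2^11 5^5 ∣ |T : M| ∣ |S|^l`, and
`|S|^2 ∣ |T|` gives `|S| = 60`, `l = 6`; an element of order 5 of the first factor commutes with the other five, but the
order of the centralizer is not divisible by `2^10`.
-/

set_option autoImplicit false
set_option maxRecDepth 100000

namespace Cfsg.Agent.H354.Fac

open Cfsg Subgroup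
open Cfsg.Agent.OrdDiv
open Cfsg.Agent.H899.CG
open Cfsg.Agent.H257.El (Known surv noOrd_of_cent)

theorem surv_hn : ((surv 273030912000000 [(2, 14), (3, 6), (5, 6), (7, 1), (11, 1), (19, 1)] 19 [11]).all
    fun g => ordN g == 175560) = true := by decide +kernel

theorem cands_hn : ((cands [(2, 7), (3, 3), (5, 3)] 432000).all
    fun g => (ordN g == 60) || (ordN g == 360)) = true := by decide +kernel

theorem noFac_hn (tab : OrderTable.{0}) (known : Known.{0}) {T : Type} [Group T] (h : Spor.IsoHN T) : NoFac T := by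
  have hn := NotCT.Orders.hn h
  have hfin : Finite T := Nat.finite_of_card_ne_zero (by rw [hn]; norm_num)
  obtain ⟨e⟩ := id h
  intro S _ _ hS hna A M k hM hF
  have hsc : H537.Cop.SC 19 T := H537.Cop.SC.congr e H94.CopHN.sc_nineteen
  have hcb : H537.Cop.CB 5 2 9 T := H537.Cop.CB.congr e H94.CopHN.cb_five
  have hv : OrdDiv.valid [(2, 14), (3, 6), (5, 6), (7, 1), (11, 1), (19, 1)] 273030912000000 = true := by
    decide +kernel
  obtain ⟨O, hO, N, htop, g, hg, -, hgc, -, -⟩ := exists_name tab known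
    (l := [(2, 14), (3, 6), (5, 6), (7, 1), (11, 1), (19, 1)]) (r := 19) (s := 11) hn hv
    (by norm_num) (by norm_num) (by norm_num) hsc (by decide +kernel)
    (by norm_num) (by norm_num) (by norm_num) (by norm_num) hM hF
  have hN : Nat.card N = 175560 := by
    rw [hgc]
    simpa using List.all_eq_true.1 surv_hn g hg
  have hno : ∀ p : ℕ, p.Prime → 19 ≠ p → ∀ z : M, orderOf z ≠ 19 * p := fun p hp hne z => by
    rw [← Subgroup.orderOf_coe]
    exact noOrd_of_cent (by norm_num) hsc hp hne _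
  have hMn : Nat.card M ∣ 273030912000000 := by
    rw [← hn]
    exact Subgroup.card_subgroup_dvd_card M
  have hO2 : ¬ 2 ∣ Nat.card O := htop.not_dvd_core (by norm_num) (by norm_num) (hno 2 (by norm_num) (by norm_num))
    fun b hb hd => H257.El.okPow_spec hv (by decide +kernel) (by norm_num) hb (hd.trans hMn)
  have hO5 : ¬ 5 ∣ Nat.card O := htop.not_dvd_core (by norm_num) (by norm_num) (hno 5 (by norm_num) (by norm_num))
    fun b hb hd => H257.El.okPow_spec hv (by decide +kernel) (by norm_num) hb (hd.trans hMn)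
  have hidx : N.index ∣ 3 := by
    have h1 := htop.index_mul_dvd hno (by rw [hN]; norm_num)
    rw [hN] at h1
    have h2 : N.index * 6 ∣ 3 * 6 := h1
    exact Nat.dvd_of_mul_dvd_mul_right (by norm_num) h2
  have hcard : 273030912000000 = 175560 * (Nat.card O * N.index * M.index) := by
    rw [← hn, ← M.card_mul_index, ← H257.El.card_quot_mul O, ← N.card_mul_index, hN]
    ring
  have h3 : Nat.card O * N.index * M.index = 1555200000 := by omega
  have hN2 : ¬ 2 ∣ N.index := fun h => by have := h.trans hidx; norm_num at this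
  have hN5 : ¬ 5 ∣ N.index := fun h => by have := h.trans hidx; norm_num at this
  have h2i : 2 ^ 11 ∣ M.index := by
    have h4 : 2 ^ 11 ∣ Nat.card O * N.index * M.index := by rw [h3]; norm_num
    exact (Nat.Coprime.pow_left 11 ((Nat.Prime.coprime_iff_not_dvd Nat.prime_two).2 fun h =>
      ((Nat.Prime.dvd_mul Nat.prime_two).1 h).elim hO2 hN2)).dvd_of_dvd_mul_left h4
  have h5i : 5 ^ 5 ∣ M.index := by
    have h4 : 5 ^ 5 ∣ Nat.card O * N.index * M.index := by rw [h3]; norm_num
    exact (Nat.Coprime.pow_left 5 ((Nat.Prime.coprime_iff_not_dvd Nat.prime_five).2 fun h =>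
      ((Nat.Prime.dvd_mul Nat.prime_five).1 h).elim hO5 hN5)).dvd_of_dvd_mul_left h4
  have h2S := h2i.trans hF.index_dvd
  have h5S := h5i.trans hF.index_dvd
  have hSn : Nat.card S ^ k ∣ 273030912000000 := by
    rw [← hn]
    exact hF.pow_dvd_card
  have hS2 : Nat.card S ∣ 432000 := by
    refine dvd_of_sq_dvd (d := 1463) (by norm_num) (by decide +kernel) ?_
    exact (pow_dvd_pow _ hF.two_le).trans hSn
  obtain ⟨g', hg', -, hgc'⟩ := exists_good tab (known S) (fun h => hna ⟨⟨h⟩⟩)
    (show OrdDiv.valid [(2, 7), (3, 3), (5, 3)] 432000 = true by decide +kernel) hS2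
  have h6 := List.all_eq_true.1 cands_hn g' hg'
  rw [← hgc', Bool.or_eq_true, beq_iff_eq, beq_iff_eq] at h6
  rcases h6 with h6 | h6
  · rw [h6] at h2S h5S hSn
    have hk6 : k ≤ 6 := by
      by_contra hk
      have h7 : (60 : ℕ) ^ 7 ∣ 273030912000000 := (pow_dvd_pow 60 (by omega)).trans hSn
      norm_num at h7
    have hk6' : 6 ≤ k := by
      by_contra hk
      have h7 : 2 ^ 11 ∣ (60 : ℕ) ^ 5 := h2S.trans (pow_dvd_pow 60 (by omega))
      norm_num at h7
    obtain rfl : k = 6 := by omega
    have : Fact (Nat.Prime 5) := ⟨Nat.prime_five⟩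
    obtain ⟨a, ha⟩ := exists_prime_orderOf_dvd_card' (G := S) 5 (by rw [h6]; norm_num)
    obtain ⟨x, -, hx, hxc⟩ := exists_cent hF a
    rw [h6] at hxc
    exact hcb x (hx.trans ha) ((by norm_num : 2 ^ (9 + 1) ∣ (60 : ℕ) ^ (6 - 1)).trans hxc)
  · rw [h6] at h2S h5S hSn
    have hk5 : 5 ≤ k := by
      by_contra hk
      have h7 : 5 ^ 5 ∣ (360 : ℕ) ^ 4 := h5S.trans (pow_dvd_pow 360 (by omega))
      norm_num at h7
    have h7 : (360 : ℕ) ^ 5 ∣ 273030912000000 := (pow_dvd_pow 360 hk5).trans hSn
    norm_num at h7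

end Cfsg.Agent.H354.Fac
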