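import Cfsg.Agent.H354.Fac.Basic

/-!
# `NoFac` for `M11`, `M12`, `M22`, `M23`, `M24`, `J1`, `J3` (helper354, S3679): no non-abelian simple group has an order
whose square divides `|T|`
-/

set_option autoImplicit false
set_option maxRecDepth 100000

namespace Cfsg.Agent.H354.Fac

open Cfsg
open Cfsg.Agent.OrdDiv
open Cfsg.Agent.H899.CG
open Cfsg.Agent.H257.El (Known)

theorem noFac_m11 (tab : OrderTable.{0}) (known : Known.{0}) {T : Type} [Group T] (h : Spor.IsoM11 T) : NoFac T :=
  noFac_of_half tab known (m := 12) (d := 55) (l := [(2, 2), (3, 1)]) (NotCT.Orders.m11 h) (by norm_num)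
    (by norm_num) (by decide +kernel) (by decide +kernel) (by decide +kernel)

theorem noFac_m12 (tab : OrderTable.{0}) (known : Known.{0}) {T : Type} [Group T] (h : Spor.IsoM12 T) : NoFac T :=
  noFac_of_half tab known (m := 24) (d := 165) (l := [(2, 3), (3, 1)]) (NotCT.Orders.m12 h) (by norm_num)
    (by norm_num) (by decide +kernel) (by decide +kernel) (by decide +kernel)

theorem noFac_m22 (tab : OrderTable.{0}) (known : Known.{0}) {T : Type} [Group T] (h : Spor.IsoM22 T) : NoFac T :=
  noFac_of_half tab known (m := 24) (d := 770) (l := [(2, 3), (3, 1)]) (NotCT.Orders.m22 h) (by norm_num)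
    (by norm_num) (by decide +kernel) (by decide +kernel) (by decide +kernel)

theorem noFac_m23 (tab : OrderTable.{0}) (known : Known.{0}) {T : Type} [Group T] (h : Spor.IsoM23 T) : NoFac T :=
  noFac_of_half tab known (m := 24) (d := 17710) (l := [(2, 3), (3, 1)]) (NotCT.Orders.m23 h) (by norm_num)
    (by norm_num) (by decide +kernel) (by decide +kernel) (by decide +kernel)

theorem noFac_m24 (tab : OrderTable.{0}) (known : Known.{0}) {T : Type} [Group T] (h : Spor.IsoM24 T) : NoFac T :=
  noFac_of_half tab known (m := 96) (d := 26565) (l := [(2, 5), (3, 1)]) (NotCT.Orders.m24 h) (by norm_num)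
    (by norm_num) (by decide +kernel) (by decide +kernel) (by decide +kernel)

theorem noFac_j1 (tab : OrderTable.{0}) (known : Known.{0}) {T : Type} [Group T] (h : Spor.IsoJ1 T) : NoFac T :=
  noFac_of_half tab known (m := 2) (d := 43890) (l := [(2, 1)]) (NotCT.Orders.j1 h) (by norm_num)
    (by norm_num) (by decide +kernel) (by decide +kernel) (by decide +kernel)

theorem noFac_j3 (tab : OrderTable.{0}) (known : Known.{0}) {T : Type} [Group T] (h : Spor.IsoJ3 T) : NoFac T :=
  noFac_of_half tab known (m := 72) (d := 9690) (l := [(2, 3), (3, 2)]) (NotCT.Orders.j3 h) (by norm_num)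
    (by norm_num) (by decide +kernel) (by decide +kernel) (by decide +kernel)

end Cfsg.Agent.H354.Fac
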