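import Mathlib

/-!
# `4 × 4` and `8 × 8` matrices over `ZMod 2`: commuting elements of order 5 in `Ω⁺8(2)` (helper354, S3679)
-/

set_option autoImplicit false
set_option maxRecDepth 100000

namespace Cfsg.Agent.H354.Fac.MF

open Matrix

abbrev M4 : Type := Matrix (Fin 4) (Fin 4) (ZMod 2)

/-- companion matrix of `X ^ 4 + X ^ 3 + X ^ 2 + X + 1` -/
def g : M4 := !![0, 0, 0, 1; 1, 0, 0, 1; 0, 1, 0, 1; 0, 0, 1, 1]

/-- the Frobenius map -/
def t : M4 := !![1, 0, 1, 0; 0, 0, 1, 1; 0, 1, 1, 0; 0, 0, 1, 0]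

/-- Gram matrix -/
def B : M4 := !![0, 1, 1, 1; 1, 0, 1, 1; 1, 1, 0, 1; 1, 1, 1, 0]

theorem g_five : g ^ 5 = 1 := by decide +kernel
theorem g_ne : g ≠ 1 := by decide +kernel
theorem t_g : (t * t) * g = g ^ 4 * (t * t) := by decide +kernel
theorem fix_left : ∀ v : Fin 4 → ZMod 2, g *ᵥ v = v → v = 0 := by decide +kernel
theorem fix_right : ∀ v : Fin 4 → ZMod 2, v ᵥ* g = v → v = 0 := by decide +kernel

theorem fix_left' {m : M4} (h : g * m = m) : m = 0 := by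
  ext i j
  have h1 := fix_left (fun k => m k j) (by
    funext k
    exact congrFun (congrFun h k) j)
  exact congrFun h1 i

theorem fix_right' {m : M4} (h : m * g = m) : m = 0 := by
  ext i j
  have h1 := fix_right (m i) (by
    funext k
    exact congrFun (congrFun h i) k)
  exact congrFun h1 j

/-- the field `F₁₆` -/
def MM (v : Fin 4 → ZMod 2) : M4 := v 0 • 1 + v 1 • g + v 2 • g ^ 2 + v 3 • g ^ 3

theorem MM_col : ∀ v : Fin 4 → ZMod 2, ∀ i, MM v i 0 = v i := by decide +kernel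

theorem g_col : ∀ j k : Fin 4, (g ^ (j : ℕ)) k 0 = if k = j then 1 else 0 := by decide +kernel

theorem MM_comm (v : Fin 4 → ZMod 2) : MM v * g = g * MM v := by
  revert v
  decide +kernel

theorem comm_zero {m : M4} (h : m * g = g * m) (h0 : ∀ i, m i 0 = 0) : m = 0 := by
  ext i j
  have h1 : m * g ^ (j : ℕ) = g ^ (j : ℕ) * m := ((show Commute m g from h).pow_right _).eq
  have h2 := congrFun (congrFun h1 i) 0
  rw [mul_apply, mul_apply] at h2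
  simp only [g_col, h0, mul_zero, Finset.sum_const_zero, mul_ite, mul_one, Finset.sum_ite_eq', Finset.mem_univ,
    if_true] at h2
  rw [h2, Matrix.zero_apply]

theorem comm_g {m : M4} (h : m * g = g * m) : m = MM fun i => m i 0 := by
  rw [← sub_eq_zero]
  apply comm_zero
  · rw [sub_mul, mul_sub, h, MM_comm]
  · intro i
    rw [Matrix.sub_apply, MM_col, sub_self]

theorem unit_g : ∀ v : Fin 4 → ZMod 2, MM v * B * (MM v)ᵀ = B → ∃ i : Fin 5, MM v = g ^ (i : ℕ) := by decide +kernel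

theorem cent_g {m : M4} (h : m * g = g * m) (hB : m * B * mᵀ = B) : ∃ i : ℕ, m = g ^ i := by
  have h1 := comm_g h
  rw [h1] at hB
  obtain ⟨i, hi⟩ := unit_g _ hB
  exact ⟨i, h1.trans hi⟩

abbrev M8 : Type := Matrix (Fin 4 ⊕ Fin 4) (Fin 4 ⊕ Fin 4) (ZMod 2)

def T : M8 := fromBlocks !![1, 0, 0, 0; 0, 1, 0, 0; 0, 0, 1, 0; 0, 0, 0, 1] !![1, 0, 0, 0; 1, 1, 0, 0; 1, 1, 1, 0; 1, 1, 1, 1] !![1, 0, 0, 0; 0, 1, 0, 0; 0, 0, 1, 0; 0, 0, 0, 1] !![1, 1, 1, 1; 0, 1, 1, 1; 0, 0, 1, 1; 0, 0, 0, 1]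
def Ti : M8 := fromBlocks !![1, 1, 1, 1; 1, 0, 0, 0; 0, 0, 1, 1; 1, 1, 1, 0] !![0, 1, 1, 1; 1, 1, 0, 0; 0, 0, 0, 1; 1, 1, 1, 1] !![0, 1, 1, 1; 1, 0, 1, 1; 1, 1, 0, 1; 1, 1, 1, 0] !![0, 1, 1, 1; 1, 0, 1, 1; 1, 1, 0, 1; 1, 1, 1, 0]
def X1 : M8 := fromBlocks !![1, 1, 0, 0; 1, 0, 1, 0; 1, 0, 0, 1; 1, 0, 0, 0] !![1, 1, 0, 0; 1, 0, 1, 0; 1, 0, 0, 1; 0, 1, 1, 1] !![1, 0, 1, 0; 0, 1, 0, 1; 0, 0, 1, 0; 1, 0, 0, 1] !![1, 1, 1, 0; 0, 1, 1, 1; 1, 1, 0, 0; 0, 1, 1, 0]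
def X2 : M8 := fromBlocks !![1, 0, 0, 0; 0, 0, 0, 1; 0, 0, 0, 1; 0, 0, 1, 1] !![0, 0, 0, 0; 0, 1, 1, 0; 0, 0, 1, 0; 0, 0, 1, 1] !![0, 0, 0, 0; 0, 1, 0, 1; 0, 1, 1, 0; 0, 0, 0, 1] !![1, 0, 0, 0; 0, 0, 1, 0; 0, 1, 1, 0; 0, 0, 0, 0]
def X3 : M8 := fromBlocks !![0, 1, 0, 1; 0, 1, 0, 0; 1, 0, 1, 1; 1, 1, 0, 0] !![1, 0, 1, 0; 1, 0, 0, 0; 1, 1, 0, 1; 1, 1, 1, 0] !![0, 0, 0, 0; 0, 0, 0, 0; 0, 0, 0, 0; 0, 0, 0, 0] !![0, 0, 1, 1; 1, 1, 0, 1; 0, 0, 1, 0; 1, 0, 1, 0]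

theorem T_Ti : T * Ti = 1 := by decide +kernel
theorem Ti_T : Ti * T = 1 := by decide +kernel
theorem T_J : T * fromBlocks 0 1 1 0 * Tᵀ = fromBlocks B 0 0 B := by decide +kernel

/-- transport -/
def W (m : M8) : M8 := Ti * m * T

theorem W_mul (m n : M8) : W m * W n = W (m * n) := by
  rw [W, W, W]
  calc Ti * m * T * (Ti * n * T) = Ti * m * (T * Ti) * n * T := by simp only [mul_assoc]
    _ = _ := by rw [T_Ti, mul_one, mul_assoc Ti m n]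

theorem W_one : W 1 = 1 := by rw [W, mul_one, Ti_T]

theorem W_inj {m n : M8} (h : W m = W n) : m = n := by
  have h1 : T * (Ti * m * T) * Ti = T * (Ti * n * T) * Ti := by
    rw [W, W] at h
    rw [h]
  have h2 : ∀ m : M8, T * (Ti * m * T) * Ti = m := fun m => by
    calc T * (Ti * m * T) * Ti = (T * Ti) * m * (T * Ti) := by simp only [mul_assoc]
      _ = m := by rw [T_Ti, one_mul, mul_one]
  rwa [h2, h2] at h1

theorem W_surj (z : M8) : ∃ m, z = W m := ⟨T * z * Ti, by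
  calc z = (Ti * T) * z * (Ti * T) := by rw [Ti_T, one_mul, mul_one]
    _ = _ := by rw [W]; simp only [mul_assoc]⟩

theorem W_pow (m : M8) (n : ℕ) : W m ^ n = W (m ^ n) := by
  induction n with
  | zero => rw [pow_zero, pow_zero, W_one]
  | succ n ih => rw [pow_succ, ih, W_mul, pow_succ]

/-- block diagonal -/
def D (a b : M4) : M8 := fromBlocks a 0 0 b

theorem D_mul (a b c d : M4) : D a b * D c d = D (a * c) (b * d) := by
  rw [D, D, D, fromBlocks_multiply]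
  simp

theorem D_one : D 1 1 = 1 := fromBlocks_one

theorem D_pow (a b : M4) (n : ℕ) : D a b ^ n = D (a ^ n) (b ^ n) := by
  induction n with
  | zero => rw [pow_zero, pow_zero, pow_zero, D_one]
  | succ n ih => rw [pow_succ, ih, D_mul, pow_succ, pow_succ]

theorem D_inj {a b a' b' : M4} (h : D a b = D a' b') : a = a' ∧ b = b' := by
  rw [D, D, fromBlocks_inj] at h
  exact ⟨h.1, h.2.2.2⟩

def sw : M8 := fromBlocks 0 1 1 0

theorem sw_D (a b : M4) : sw * D a b = D b a * sw := by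
  rw [sw, D, D, fromBlocks_multiply, fromBlocks_multiply]
  simp

/-- the elements -/
def a8 : M8 := W (D g 1)
def b8 : M8 := W (D 1 g)
def s8 : M8 := W sw
def c8 : M8 := W (D 1 (t * t))

theorem X1_a : X1 * X1 = a8 := by decide +kernel
theorem X2_c : X2 * X2 = c8 := by decide +kernel
theorem X3_s : X3 * X3 = s8 := by decide +kernel
theorem X1_i : X1 * X1 ^ 4 = 1 := by decide +kernel
theorem X1_i' : X1 ^ 4 * X1 = 1 := by decide +kernel
theorem X2_i : X2 * X2 ^ 3 = 1 := by decide +kernel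
theorem X2_i' : X2 ^ 3 * X2 = 1 := by decide +kernel
theorem X3_i : X3 * X3 ^ 3 = 1 := by decide +kernel
theorem X3_i' : X3 ^ 3 * X3 = 1 := by decide +kernel

theorem a_five : a8 ^ 5 = 1 := by rw [a8, W_pow, D_pow, g_five, one_pow, D_one, W_one]
theorem b_five : b8 ^ 5 = 1 := by rw [b8, W_pow, D_pow, g_five, one_pow, D_one, W_one]
theorem a_b : a8 * b8 = b8 * a8 := by
  rw [a8, b8, W_mul, W_mul, D_mul, D_mul]
  simp
theorem s_a : s8 * a8 = b8 * s8 := by rw [s8, a8, b8, W_mul, W_mul, sw_D]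
theorem c_a : c8 * a8 = a8 * c8 := by
  rw [c8, a8, W_mul, W_mul, D_mul, D_mul]
  simp
theorem c_b : c8 * b8 = b8 ^ 4 * c8 := by
  rw [c8, b8, W_pow, D_pow, W_mul, W_mul, D_mul, D_mul, t_g]
  simp
theorem b_ne (i : ℕ) : b8 ≠ a8 ^ i := by
  intro h
  rw [a8, b8, W_pow, D_pow, one_pow] at h
  exact g_ne (D_inj (W_inj h)).2
theorem a_ne : a8 ≠ 1 := by
  intro h
  rw [a8, ← W_one, ← D_one] at h
  exact g_ne (D_inj (W_inj h)).1
theorem b_ne_one : b8 ≠ 1 := by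
  intro h
  exact b_ne 0 (by rw [h, pow_zero])

theorem form_of {T Ti J K w : M8} (h1 : T * Ti = 1) (hK : T * J * Tᵀ = K) (h : (Ti * w * T) * J * (Ti * w * T)ᵀ = J) :
    w * K * wᵀ = K := by
  have h3 : w * T = T * (Ti * w * T) := by
    calc w * T = (T * Ti) * w * T := by rw [h1, one_mul]
      _ = _ := by simp only [mul_assoc]
  have h2 : Tᵀ * wᵀ = (Ti * w * T)ᵀ * Tᵀ := by rw [← transpose_mul, ← transpose_mul, h3]
  rw [← hK]
  calc w * (T * J * Tᵀ) * wᵀ = (w * T) * J * (Tᵀ * wᵀ) := by simp only [mul_assoc]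
    _ = T * ((Ti * w * T) * J * (Ti * w * T)ᵀ) * Tᵀ := by rw [h2, h3]; simp only [mul_assoc]
    _ = _ := by rw [h]

/-- **the centralizer in `Sp8(2)`** -/
theorem cent_sp {z : M8} (ha : z * a8 = a8 * z) (hb : z * b8 = b8 * z)
    (hJ : z * fromBlocks 0 1 1 0 * zᵀ = fromBlocks 0 1 1 0) : ∃ i j : ℕ, z = a8 ^ i * b8 ^ j := by
  obtain ⟨w, rfl⟩ := W_surj z
  rw [a8, W_mul, W_mul] at ha
  rw [b8, W_mul, W_mul] at hb
  have ha' := W_inj ha
  have hb' := W_inj hb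
  rw [D, ← fromBlocks_toBlocks w, fromBlocks_multiply, fromBlocks_multiply, fromBlocks_inj] at ha' hb'
  simp only [mul_zero, zero_mul, mul_one, one_mul, add_zero, zero_add] at ha' hb'
  obtain ⟨a1, a2, a3, -⟩ := ha'
  obtain ⟨-, -, -, b4⟩ := hb'
  have h12 : w.toBlocks₁₂ = 0 := fix_left' a2.symm
  have h21 : w.toBlocks₂₁ = 0 := fix_right' a3
  have hw : w = D w.toBlocks₁₁ w.toBlocks₂₂ := by
    conv_lhs => rw [← fromBlocks_toBlocks w, h12, h21]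
    rfl
  have hJ2 : w * fromBlocks B 0 0 B * wᵀ = fromBlocks B 0 0 B := form_of T_Ti T_J hJ
  rw [hw, D, fromBlocks_transpose, fromBlocks_multiply, fromBlocks_multiply, fromBlocks_inj] at hJ2
  simp only [mul_zero, zero_mul, add_zero, zero_add] at hJ2
  obtain ⟨i, hi⟩ := cent_g a1 hJ2.1
  obtain ⟨j, hj⟩ := cent_g b4 hJ2.2.2.2
  refine ⟨i, j, ?_⟩
  rw [hw, hi, hj, a8, b8, W_pow, W_pow, D_pow, D_pow, W_mul, D_mul, one_pow, one_pow, one_mul, mul_one]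

end Cfsg.Agent.H354.Fac.MF
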