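import Cfsg.Agent.H354.Fac.Basic
import Cfsg.Agent.H537.CopSC
import Cfsg.Agent.H868.CopSuzB
import Cfsg.Agent.H451.BG.Fi22
import Cfsg.Agent.H567.BGr.SuzRow

/-!
# `NoFac` for `Suz`, `Fi22` (helper354, S3679)
-/

set_option autoImplicit false
set_option maxRecDepth 100000

namespace Cfsg.Agent.H354.Fac

open Cfsg
open Cfsg.Agent.OrdDiv
open Cfsg.Agent.H899.CG
open Cfsg.Agent.H257.El (Known)

theorem noFac_suz (tab : OrderTable.{0}) (known : Known.{0}) {T : Type} [Group T] (h : Spor.IsoSuz T) : NoFac T := by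
  have hn := NotCT.Orders.suz h
  have hfin : Finite T := Nat.finite_of_card_ne_zero (by rw [hn]; norm_num)
  obtain ⟨e⟩ := id h
  intro S _ _ _ _ A M k hM hF
  obtain ⟨O, hO, N, htop, g, hg, hreal, -, -, -⟩ := exists_name tab known
    (l := [(2, 13), (3, 7), (5, 2), (7, 1), (11, 1), (13, 1)]) (r := 13) (s := 11) hn (by decide +kernel)
    (by norm_num) (by norm_num) (by norm_num) (H537.Cop.SC.congr e H868.CopSuz.sc_thirteen) (by decide +kernel)
    (by norm_num) (by norm_num) (by norm_num) (by norm_num) hM hF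
  rw [H567.BGr.surv_suz, List.mem_singleton] at hg
  subst hg
  obtain ⟨φ⟩ := hreal
  obtain ⟨z, hz⟩ := H567.BGr.alt_thirteen
  obtain ⟨w, hw⟩ := H257.El.Sit.exists_orderOf (T := T) (R := M) (O := O) (N := N) (k := 5 * 7)
    ⟨φ.symm z, by rw [MulEquiv.orderOf_eq, hz]⟩
  exact H361.Alt.SuzF.no_35 h w hw

theorem noFac_fi22 (tab : OrderTable.{0}) (known : Known.{0}) {T : Type} [Group T] (h : Spor.IsoFi22 T) : NoFac T := by
  have hn := NotCT.Orders.fi22 h
  have hfin : Finite T := Nat.finite_of_card_ne_zero (by rw [hn]; norm_num)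
  obtain ⟨e⟩ := id h
  intro S _ _ _ _ A M k hM hF
  obtain ⟨O, hO, N, htop, g, hg, hreal, -, -, hidx⟩ := exists_name tab known
    (l := [(2, 17), (3, 9), (5, 2), (7, 1), (11, 1), (13, 1)]) (r := 13) (s := 11) hn (by decide +kernel)
    (by norm_num) (by norm_num) (by norm_num) (H537.Cop.fi22_13 h) (by decide +kernel)
    (by norm_num) (by norm_num) (by norm_num) (by norm_num) hM hF
  rw [H451.BG.surv_fi22] at hg
  simp only [List.mem_cons, List.not_mem_nil, or_false] at hg
  rcases hg with rfl | rfl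
  · obtain ⟨f⟩ := hreal
    obtain ⟨x, hx⟩ := H451.BG.exists35
    obtain ⟨z, hz⟩ := H257.El.Sit.exists_orderOf (T := T) (R := M) (O := O) (N := N) (k := 35)
      ⟨f.symm x, (MulEquiv.orderOf_eq f.symm x).trans hx⟩
    exact H451.BG.no35_fi22 e z hz
  · have h1 := (H867.SporMI.fi22.congr e.symm).index M hM.1
    have h2 : M.index ≤ 144 := Nat.le_of_dvd (by norm_num) (hidx.trans (by decide +kernel))
    omega

end Cfsg.Agent.H354.Fac
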