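import Cfsg.Agent.H354.Fac.Basic
import Cfsg.Agent.H537.CopSC
import Cfsg.Agent.H981.SCON

/-!
# `NoFac` for `J4`, `Ru`, `ON`, `Fi23`, `Fi24'` (helper354, S3679)
-/

set_option autoImplicit false
set_option maxRecDepth 100000

namespace Cfsg.Agent.H354.Fac

open Cfsg
open Cfsg.Agent.OrdDiv
open Cfsg.Agent.H899.CG
open Cfsg.Agent.H257.El (Known)

theorem noFac_j4 (tab : OrderTable.{0}) (known : Known.{0}) {T : Type} [Group T] (h : Spor.IsoJ4 T) : NoFac T :=
  noFac_of_pair tab known (r := 43) (s := 37)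
    (l := [(2, 21), (3, 3), (5, 1), (7, 1), (11, 3), (23, 1), (29, 1), (31, 1), (37, 1), (43, 1)])
    (NotCT.Orders.j4 h) (by norm_num) (by norm_num) (by norm_num) (by norm_num) (H537.Cop.j4_43 h) (by decide +kernel)
    (by norm_num) (by norm_num) (by norm_num) (by norm_num)

theorem noFac_ru (tab : OrderTable.{0}) (known : Known.{0}) {T : Type} [Group T] (h : Spor.IsoRu T) : NoFac T :=
  noFac_of_pair tab known (r := 29) (s := 13) (l := [(2, 14), (3, 3), (5, 3), (7, 1), (13, 1), (29, 1)])
    (NotCT.Orders.ru h) (by norm_num) (by norm_num) (by norm_num) (by norm_num) (H537.Cop.ru_29 h) (by decide +kernel)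
    (by norm_num) (by norm_num) (by norm_num) (by norm_num)

theorem noFac_on (tab : OrderTable.{0}) (known : Known.{0}) {T : Type} [Group T] (h : Spor.IsoON T) : NoFac T := by
  obtain ⟨e⟩ := h
  exact noFac_of_pair tab known (r := 31) (s := 19) (l := [(2, 9), (3, 4), (5, 1), (7, 3), (11, 1), (19, 1), (31, 1)])
    (NotCT.Orders.on ⟨e⟩) (by norm_num) (by norm_num) (by norm_num) (by norm_num)
    (H537.Cop.SC.congr e H981.SCON.sc_on) (by decide +kernel) (by norm_num) (by norm_num) (by norm_num) (by norm_num)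

theorem noFac_fi23 (tab : OrderTable.{0}) (known : Known.{0}) {T : Type} [Group T] (h : Spor.IsoFi23 T) : NoFac T :=
  noFac_of_pair tab known (r := 23) (s := 17)
    (l := [(2, 18), (3, 13), (5, 2), (7, 1), (11, 1), (13, 1), (17, 1), (23, 1)])
    (NotCT.Orders.fi23 h) (by norm_num) (by norm_num) (by norm_num) (by norm_num) (H537.Cop.fi23_23 h)
    (by decide +kernel) (by norm_num) (by norm_num) (by norm_num) (by norm_num)

theorem noFac_fi24' (tab : OrderTable.{0}) (known : Known.{0}) {T : Type} [Group T] (h : Spor.IsoFi24' T) : NoFac T :=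
  noFac_of_pair tab known (r := 29) (s := 13)
    (l := [(2, 21), (3, 16), (5, 2), (7, 3), (11, 1), (13, 1), (17, 1), (23, 1), (29, 1)])
    (NotCT.Orders.fi24 h) (by norm_num) (by norm_num) (by norm_num) (by norm_num) (H537.Cop.fi24_29' h)
    (by decide +kernel) (by norm_num) (by norm_num) (by norm_num) (by norm_num)

end Cfsg.Agent.H354.Fac
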