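import Cfsg.Agent.H354.Fac.Basic
import Cfsg.Agent.H537.CopRowsC
import Cfsg.Agent.H981.SCTh
import Cfsg.Agent.H655.LySixtySeven

/-!
# `NoFac` for `Co1`, `Th`, `Ly` (helper354, S3679)
-/

set_option autoImplicit false
set_option maxRecDepth 100000

namespace Cfsg.Agent.H354.Fac

open Cfsg
open Cfsg.Agent.OrdDiv
open Cfsg.Agent.H899.CG
open Cfsg.Agent.H257.El (Known)

theorem noFac_co1 (tab : OrderTable.{0}) (known : Known.{0}) {T : Type} [Group T] (h : Spor.IsoCo1 T) : NoFac T :=
  noFac_of_pair tab known (r := 23) (s := 13) (l := [(2, 21), (3, 9), (5, 4), (7, 2), (11, 1), (13, 1), (23, 1)])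
    (NotCT.Orders.co1 h) (by norm_num) (by norm_num) (by norm_num) (by norm_num) (H537.Cop.co1_23 h)
    (by decide +kernel) (by norm_num) (by norm_num) (by norm_num) (by norm_num)

theorem noFac_th (tab : OrderTable.{0}) (known : Known.{0}) {T : Type} [Group T] (h : Spor.IsoTh T) : NoFac T := by
  obtain ⟨e⟩ := h
  exact noFac_of_pair tab known (r := 19) (s := 13) (l := [(2, 15), (3, 10), (5, 3), (7, 2), (13, 1), (19, 1), (31, 1)])
    (NotCT.Orders.th ⟨e⟩) (by norm_num) (by norm_num) (by norm_num) (by norm_num)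
    (H537.Cop.SC.congr e H981.SCTh.sc_th) (by decide +kernel) (by norm_num) (by norm_num) (by norm_num) (by norm_num)

theorem noFac_ly (tab : OrderTable.{0}) (known : Known.{0}) {T : Type} [Group T] (h : Spor.IsoLy T) : NoFac T := by
  have hn := NotCT.Orders.ly h
  have : Finite T := Nat.finite_of_card_ne_zero (by rw [hn]; norm_num)
  exact noFac_of_pair tab known (r := 67) (s := 31)
    (l := [(2, 8), (3, 7), (5, 6), (7, 1), (11, 1), (31, 1), (37, 1), (67, 1)])
    hn (by norm_num) (by norm_num) (by norm_num) (by norm_num)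
    (H655.LySixtySeven.sc_ly (fun S _ _ _ => known S) h) (by decide +kernel) (by norm_num) (by norm_num) (by norm_num)
    (by norm_num)

end Cfsg.Agent.H354.Fac
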