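import Cfsg.Agent.H354.Fac.Basic
import Cfsg.Agent.H568.SC.Mon

/-!
# `NoFac` for the Monster (helper354, S3679)
-/

set_option autoImplicit false
set_option maxRecDepth 100000

namespace Cfsg.Agent.H354.Fac

open Cfsg
open Cfsg.Agent.OrdDiv
open Cfsg.Agent.H899.CG
open Cfsg.Agent.H257.El (Known)

theorem noFac_m (tab : OrderTable.{0}) (known : Known.{0}) {T : Type} [Group T] (h : Spor.IsoM T) : NoFac T := by
  obtain ⟨e⟩ := h
  exact noFac_of_pair tab known (r := 59) (s := 71)
    (l := [(2, 46), (3, 20), (5, 9), (7, 6), (11, 2), (13, 3), (17, 1), (19, 1), (23, 1), (29, 1), (31, 1), (41, 1),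
      (47, 1), (59, 1), (71, 1)])
    (NotCT.Orders.m ⟨e⟩) (by norm_num) (by norm_num) (by norm_num) (by norm_num)
    (H537.Cop.SC.congr e (H568.SC.Mon.sc (fun S _ _ _ => known S))) (by decide +kernel) (by norm_num) (by norm_num)
    (by norm_num) (by norm_num)

end Cfsg.Agent.H354.Fac
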