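import Cfsg.Agent.H354.Fac.Half
import Cfsg.Agent.H354.Fac.PairA
import Cfsg.Agent.H354.Fac.PairB
import Cfsg.Agent.H354.Fac.PairB2
import Cfsg.Agent.H354.Fac.PairM
import Cfsg.Agent.H354.Fac.Named
import Cfsg.Agent.H354.Fac.HN

/-!
# `NoFac` for `M11`, `M12`, `M22`, `M23`, `M24`, `J1`, `J3`, `J4`, `Suz`, `Co1`, `Fi22`, `Fi23`, `Fi24'`, `HN`, `Ly`,
`Th`, `B`, `M`, `Ru`, `ON` (helper354, S3679, task 3152)
-/
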