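import Cfsg.Agent.H57.BG.Level
import Cfsg.Agent.LieClassical.OmegaReindex
import Cfsg.Agent.S0293
import Cfsg.Agent.S0287

/-!
# The stabiliser of a nonsingular vector in `Ω⁺_2m(2)` (helper354, S3679)
-/

set_option autoImplicit false
set_option maxRecDepth 100000

namespace Cfsg.Agent.H354.Fac

open Subgroup Cfsg Cfsg.Geo QuadraticMap
open Cfsg.Agent.H884.El (pre)
open Cfsg.Agent.H57.BG
open Cfsg.Agent.LieClassical.OmegaReindex
open scoped MatrixGroups Matrix

variable {F : Type} [Field F] [Fintype F] {m : ℕ}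

/-- the index of `Ω` in the isometry group -/
theorem index_omega (hF : Fintype.card F = 2) (hm : 4 ≤ m) (hc : center (Omega F (quadFormPlus m F)) = ⊥) :
    (Omega F (quadFormPlus m F)).index = 2 := by
  have h1 := S0293.result hF m hm
  have h2 := S0287.result hF m (by omega)
  have hodd : Nat.gcd 4 (2 ^ m - 1) = 1 := by
    have h3 : Odd (2 ^ m - 1) := by
      obtain ⟨k, rfl⟩ : ∃ k, m = k + 1 := ⟨m - 1, by omega⟩
      rw [pow_succ]
      exact ⟨2 ^ k - 1, by have := Nat.one_le_two_pow (n := k); omega⟩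
    have h4 : Nat.Coprime 4 (2 ^ m - 1) := by
      rw [show (4 : ℕ) = 2 ^ 2 by norm_num]
      exact Nat.Coprime.pow_left 2 (Nat.coprime_two_left.2 h3)
    exact h4
  rw [hodd, one_mul] at h1
  have h3 : Nat.card (POmega F (quadFormPlus m F)) = Nat.card (Omega F (quadFormPlus m F)) := by
    have h4 := Subgroup.card_mul_index (center (Omega F (quadFormPlus m F)))
    rw [hc, Subgroup.card_bot, one_mul] at h4
    change Nat.card (Omega F (quadFormPlus m F) ⧸ center (Omega F (quadFormPlus m F))) = _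
    rw [← Subgroup.index_eq_card, hc, h4]
  have h5 := Subgroup.card_mul_index (Omega F (quadFormPlus m F))
  rw [← h3, h1, h2] at h5
  have hpos : 0 < 2 ^ (m * (m - 1)) * (2 ^ m - 1) * ∏ i ∈ Finset.range (m - 1), (2 ^ (2 * (i + 1)) - 1) := by
    rw [← h1]
    have : Finite (POmega F (quadFormPlus m F)) := Quotient.finite _
    exact Nat.card_pos
  apply Nat.eq_of_mul_eq_mul_left hpos
  rw [h5]
  ring

/-- **the stabiliser of a nonsingular vector** -/
theorem exists_stab (hF : Fintype.card F = 2) (hm : 4 ≤ m) (hc : center (Omega F (quadFormPlus m F)) = ⊥)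
    {M : Subgroup (POmega F (quadFormPlus m F))} {v : Fin m ⊕ Fin m → F} (hv : quadFormPlus m F v ≠ 0)
    (hle : pre (quadFormPlus m F) M ≤ subspaceStabilizer (Submodule.span F {v})) :
    ∃ N : Subgroup (POmega F (quadFormPlus m F)), M ≤ N ∧ N.index ≤ 2 ^ (m - 1) * (2 ^ m - 1) ∧
      2 ^ (m - 1) * (2 ^ m - 1) ∣ 2 * N.index := by
  have hfinO : Finite (Omega F (quadFormPlus m F)) := inferInstance
  let _ := actV (quadFormPlus m F)
  have h2F : (2 : F) = 0 := by
    have h1 : ((Fintype.card F : ℕ) : F) = 0 := Nat.cast_card_eq_zero F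
    rw [hF] at h1
    exact_mod_cast h1
  -- scalars are one
  have hone : ∀ c : F, c ≠ 0 → c = 1 := by
    intro c hc0
    have h1 := FiniteField.pow_card_sub_one_eq_one c hc0
    rwa [hF, pow_one] at h1
  let St : Subgroup (Omega F (quadFormPlus m F)) := MulAction.stabilizer (Omega F (quadFormPlus m F)) v
  let π := QuotientGroup.mk' (center (Omega F (quadFormPlus m F)))
  have hker : π.ker ≤ St := by
    rw [QuotientGroup.ker_mk', hc]
    exact bot_le
  have hidx : (St.map π).index = St.index :=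
    Subgroup.index_map_eq _ (QuotientGroup.mk'_surjective _) hker
  have hlev : Nat.card {u : Fin m ⊕ Fin m → F // quadFormPlus m F u = quadFormPlus m F v} =
      2 ^ (m - 1) * (2 ^ m - 1) := by
    rw [plus_level (by omega) hv, hF]
  refine ⟨St.map π, ?_, ?_, ?_⟩
  · intro x hx
    obtain ⟨g, rfl⟩ := QuotientGroup.mk'_surjective (center (Omega F (quadFormPlus m F))) x
    refine ⟨g, ?_, rfl⟩
    have h1 : (((g : Omega F (quadFormPlus m F)) : isometryGroup F (quadFormPlus m F)) : GL (Fin m ⊕ Fin m) F) ∈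
        pre (quadFormPlus m F) M := ⟨g, ⟨g, hx, rfl⟩, rfl⟩
    have h2 := Cfsg.Agent.H884.OmegaGL.mem_subspaceStabilizer.1 (hle h1) v (Submodule.mem_span_singleton_self v)
    obtain ⟨c, hcv⟩ := Submodule.mem_span_singleton.1 h2
    replace hcv : c • v = ((((g : Omega F (quadFormPlus m F)) : isometryGroup F (quadFormPlus m F)) :
          GL (Fin m ⊕ Fin m) F) : Matrix (Fin m ⊕ Fin m) (Fin m ⊕ Fin m) F) *ᵥ v := hcv
    have hc0 : c ≠ 0 := by
      rintro rfl
      rw [zero_smul] at hcv
      have h3 : quadFormPlus m F ((((g : Omega F (quadFormPlus m F)) : isometryGroup F (quadFormPlus m F)) :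
          GL (Fin m ⊕ Fin m) F) *ᵥ v) = quadFormPlus m F v := (g : isometryGroup F (quadFormPlus m F)).2 v v
      rw [← hcv] at h3
      apply hv
      rw [← h3]
      simp [quadFormPlus]
    change (((g : Omega F (quadFormPlus m F)) : isometryGroup F (quadFormPlus m F)) :
          Matrix.GeneralLinearGroup (Fin m ⊕ Fin m) F).1 *ᵥ v = v
    rw [← hcv, hone c hc0, one_smul]
  · rw [hidx, MulAction.index_stabilizer, ← hlev]
    have h5 : Nat.card {u : Fin m ⊕ Fin m → F // quadFormPlus m F u = quadFormPlus m F v} =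
        {u : Fin m ⊕ Fin m → F | quadFormPlus m F u = quadFormPlus m F v}.ncard := rfl
    rw [h5]
    refine Set.ncard_le_ncard ?_ (Set.toFinite _)
    rintro _ ⟨g, rfl⟩
    exact (g : isometryGroup F (quadFormPlus m F)).2 v v
  · have key : ∀ (M : Subgroup (POmega F (⇑(quadPlus m F)))) (v : Fin m ⊕ Fin m → F), quadPlus m F v ≠ 0 →
        pre (⇑(quadPlus m F)) M ≤ subspaceStabilizer (Submodule.span F {v}) →
        Nat.card {u : Fin m ⊕ Fin m → F // quadPlus m F u = quadPlus m F v} ∣
          (Omega F (⇑(quadPlus m F))).index * M.index := fun M v hv hM =>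
      level_dvd_two _ h2F quadPlus_nondegenerate hv hM
    rw [coe_quadPlus] at key
    rw [← hlev, ← index_omega hF hm hc]
    refine key _ v hv ?_
    rintro _ ⟨_, ⟨g, hg, rfl⟩, rfl⟩
    obtain ⟨g', hg', hgg⟩ := hg
    have h1 : g = g' := by
      have h2 : g'⁻¹ * g ∈ center (Omega F (quadFormPlus m F)) := QuotientGroup.eq.1 hgg
      rw [hc, mem_bot, inv_mul_eq_one] at h2
      exact h2.symm
    rw [h1]
    refine Cfsg.Agent.H884.OmegaGL.mem_subspaceStabilizer.2 fun w hw => ?_
    obtain ⟨c, rfl⟩ := Submodule.mem_span_singleton.1 hw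
    have h3 : ((((g' : Omega F (quadFormPlus m F)) : isometryGroup F (quadFormPlus m F)) :
          GL (Fin m ⊕ Fin m) F) : Matrix (Fin m ⊕ Fin m) (Fin m ⊕ Fin m) F) *ᵥ v = v := hg'
    change ((((g' : Omega F (quadFormPlus m F)) : isometryGroup F (quadFormPlus m F)) :
          GL (Fin m ⊕ Fin m) F) : Matrix (Fin m ⊕ Fin m) (Fin m ⊕ Fin m) F) *ᵥ (c • v) ∈ _
    rw [Matrix.mulVec_smul, h3]
    exact hw

end Cfsg.Agent.H354.Fac
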