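import Cfsg.Agent.H354.Fac.TSl

/-!
# Real elements of order 7 in `SL6(2)` (helper354, S3679)

An element of `⟨a, b⟩` conjugate to its inverse has centralizer in `⟨a, b⟩`.
-/

set_option autoImplicit false
set_option maxRecDepth 100000

namespace Cfsg.Agent.H354.Fac

open Matrix Subgroup MT

/-- the class of the exponent -/
def cl (i : Fin 7) : Bool := i = 1 || i = 2 || i = 4

/-- value of the minimal polynomial of `g ^ j` -/
def pol (j : Fin 7) (m : M3) : M3 := if cl j then m ^ 3 + m + 1 else m ^ 3 + m ^ 2 + 1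

theorem pol_zero : ∀ j : Fin 7, j ≠ 0 → pol j (g ^ (j : ℕ)) = 0 := by decide +kernel

theorem pol_inv : ∀ i j : Fin 7, j ≠ 0 → cl i ≠ cl j ∨ i = 0 → ∃ k : Fin 7, g ^ (k : ℕ) * pol j (g ^ (i : ℕ)) = 1 := by
  decide +kernel

theorem pol_int {u v m : M3} (h : m * u = v * m) (j : Fin 7) : m * pol j u = pol j v * m := by
  have h2 : m * u ^ 2 = v ^ 2 * m := by
    rw [pow_two, pow_two, ← mul_assoc, h, mul_assoc, h, mul_assoc]
  have h3 : m * u ^ 3 = v ^ 3 * m := by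
    rw [pow_succ u 2, pow_succ v 2, ← mul_assoc, h2, mul_assoc, h, mul_assoc]
  unfold pol
  split_ifs
  · rw [mul_add, mul_add, add_mul, add_mul, h3, h, mul_one, one_mul]
  · rw [mul_add, mul_add, add_mul, add_mul, h3, h2, mul_one, one_mul]

/-- intertwiners of different classes vanish -/
theorem int_zero {i j : Fin 7} {m : M3} (h : m * g ^ (j : ℕ) = g ^ (i : ℕ) * m) (hj : j ≠ 0)
    (hc : cl i ≠ cl j ∨ i = 0) : m = 0 := by
  have h1 := pol_int h j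
  rw [pol_zero j hj, mul_zero] at h1
  obtain ⟨k, hk⟩ := pol_inv i j hj hc
  calc m = g ^ (k : ℕ) * pol j (g ^ (i : ℕ)) * m := by rw [hk, one_mul]
    _ = 0 := by rw [mul_assoc, ← h1, mul_zero]

theorem pol_inv' : ∀ i j : Fin 7, j = 0 → i ≠ 0 → ∃ k : Fin 7, g ^ (k : ℕ) * (g ^ (i : ℕ) + 1) = 1 := by
  decide +kernel

theorem int_zero' {i j : Fin 7} {m : M3} (h : m * g ^ (j : ℕ) = g ^ (i : ℕ) * m) (hj : j = 0) (hi : i ≠ 0) : m = 0 := by
  obtain ⟨k, hk⟩ := pol_inv' i j hj hi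
  subst hj
  have h1 : (g ^ (i : ℕ) + 1) * m = 0 := by
    rw [add_mul, one_mul, ← h]
    have : m * g ^ ((0 : Fin 7) : ℕ) = m := by
      rw [Fin.val_zero, pow_zero, mul_one]
    rw [this]
    ext i j
    exact CharTwo.add_self_eq_zero _
  calc m = g ^ (k : ℕ) * (g ^ (i : ℕ) + 1) * m := by rw [hk, one_mul]
    _ = 0 := by rw [mul_assoc, h1, mul_zero]

/-- the inverse exponent -/
def ng (i : Fin 7) : Fin 7 := -i

theorem ng_cl : ∀ i : Fin 7, i ≠ 0 → cl (ng i) ≠ cl i := by decide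

theorem ng_zero : ∀ i : Fin 7, ng i = 0 ↔ i = 0 := by decide

theorem g_ng : ∀ i : Fin 7, g ^ (ng i : ℕ) * g ^ (i : ℕ) = 1 := by decide +kernel

/-- `t x = x⁻¹ t` in blocks -/
theorem blocks {z : M6} {a b a' b' : M3} (h : z * D a b = D a' b' * z) :
    ∃ z1 z2 z3 z4 : M3, z = Rx (fromBlocks z1 z2 z3 z4) ∧ z1 * a = a' * z1 ∧ z2 * b = a' * z2 ∧ z3 * a = b' * z3 ∧
      z4 * b = b' * z4 := by
  obtain ⟨w, rfl⟩ := Rx.surjective z
  rw [D, D, ← map_mul, ← map_mul] at h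
  have h' := Rx.injective h
  rw [← fromBlocks_toBlocks w, fromBlocks_multiply, fromBlocks_multiply, fromBlocks_inj] at h'
  simp only [mul_zero, zero_mul, add_zero, zero_add] at h'
  exact ⟨_, _, _, _, by rw [fromBlocks_toBlocks w], h'⟩

theorem cl_two : ∀ a b c : Bool, a ≠ b → b ≠ c → a = c := by decide

/-- **real elements** -/
theorem real_cent {i j : Fin 7} (hij : ¬ (i = 0 ∧ j = 0)) {t y : M6} (hty : t * y = 1)
    (ht : t * D (g ^ (i : ℕ)) (g ^ (j : ℕ)) = D (g ^ (ng i : ℕ)) (g ^ (ng j : ℕ)) * t) {z : M6}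
    (hz : z * D (g ^ (i : ℕ)) (g ^ (j : ℕ)) = D (g ^ (i : ℕ)) (g ^ (j : ℕ)) * z) :
    ∃ m n : M3, z = D m n ∧ m * g ^ (i : ℕ) = g ^ (i : ℕ) * m ∧ n * g ^ (j : ℕ) = g ^ (j : ℕ) * n ∧ i ≠ 0 ∧ j ≠ 0 := by
  obtain ⟨t1, t2, t3, t4, rfl, h1, h2, h3, h4⟩ := blocks ht
  obtain ⟨z1, z2, z3, z4, rfl, k1, k2, k3, k4⟩ := blocks hz
  have hyt : y * Rx (fromBlocks t1 t2 t3 t4) = 1 := mul_eq_one_comm.1 hty
  -- no zero block column
  have col1 : ¬ (t1 = 0 ∧ t3 = 0) := by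
    rintro ⟨rfl, rfl⟩
    have h5 : (y * Rx (fromBlocks 0 t2 0 t4)) * D 1 0 = D 1 0 := by rw [hyt, one_mul]
    rw [mul_assoc, D, ← map_mul, fromBlocks_multiply] at h5
    simp only [mul_zero, zero_mul, add_zero, fromBlocks_zero, map_zero] at h5
    have h6 : D 0 0 = D 1 0 := by rw [D_zero]; exact h5
    exact absurd (D_inj h6).1 (by decide)
  have col2 : ¬ (t2 = 0 ∧ t4 = 0) := by
    rintro ⟨rfl, rfl⟩
    have h5 : (y * Rx (fromBlocks t1 0 t3 0)) * D 0 1 = D 0 1 := by rw [hyt, one_mul]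
    rw [mul_assoc, D, ← map_mul, fromBlocks_multiply] at h5
    simp only [mul_zero, zero_mul, add_zero, fromBlocks_zero, map_zero] at h5
    have h6 : D 0 0 = D 0 1 := by rw [D_zero]; exact h5
    exact absurd (D_inj h6).2 (by decide)
  have hi : i ≠ 0 := by
    rintro rfl
    have hj : j ≠ 0 := fun h => hij ⟨rfl, h⟩
    apply col2
    refine ⟨int_zero h2 hj (.inr rfl), int_zero h4 hj (.inl (ng_cl j hj))⟩
  have hj : j ≠ 0 := by
    rintro rfl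
    apply col1
    exact ⟨int_zero h1 hi (.inl (ng_cl i hi)), int_zero h3 hi (.inr rfl)⟩
  have ht1 : t1 = 0 := int_zero h1 hi (.inl (ng_cl i hi))
  have ht3 : t3 ≠ 0 := fun h => col1 ⟨ht1, h⟩
  -- `g ^ i` and `g ^ (- j)` are in the same class
  have hc : cl (ng j) = cl i := by
    by_contra hne
    exact ht3 (int_zero h3 hi (.inl hne))
  have hc2 : cl i ≠ cl j := by rw [← hc]; exact ng_cl j hj
  have hz2 : z2 = 0 := int_zero k2 hj (.inl hc2)
  have hz3 : z3 = 0 := int_zero k3 hi (.inl hc2.symm)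
  subst hz2
  subst hz3
  exact ⟨z1, z4, rfl, k1, k4, hi, hj⟩

theorem pow_root : ∀ i : Fin 7, i ≠ 0 → ∃ k : Fin 7, (g ^ (i : ℕ)) ^ (k : ℕ) = g := by decide +kernel

/-- commuting with a power is commuting -/
theorem comm_pow {i : Fin 7} (hi : i ≠ 0) {m : M3} (h : m * g ^ (i : ℕ) = g ^ (i : ℕ) * m) : m * g = g * m := by
  obtain ⟨k, hk⟩ := pow_root i hi
  have h1 : Commute m (g ^ (i : ℕ)) := h
  have h2 := h1.pow_right (k : ℕ)
  rw [hk] at h2
  exact h2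

theorem D_comm_a {z : M6} {m n : M3} (h : z = D m n) (hm : m * g = g * m) : z * D g 1 = D g 1 * z := by
  rw [h, D_mul, D_mul, hm, mul_one, one_mul]

theorem D_comm_b {z : M6} {m n : M3} (h : z = D m n) (hn : n * g = g * n) : z * D 1 g = D 1 g * z := by
  rw [h, D_mul, D_mul, hn, mul_one, one_mul]

/-- **real elements of `⟨a, b⟩` in `SL6(2)`** -/
theorem real_sl {x z t : SL6} (hx : x ∈ Q aL bL) (hx1 : x ≠ 1) (ht : t * x = x⁻¹ * t) (hz : z * x = x * z) :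
    z ∈ Q aL bL := by
  obtain ⟨h1, h2, h3, h4⟩ := gd_sl_data
  obtain ⟨i', j', hij⟩ := (mem_Q h1.comm).1 hx
  -- natural exponents
  have hpa : ∃ i : Fin 7, aL ^ i' = aL ^ (i : ℕ) := by
    refine ⟨⟨(i' % 7).toNat, ?_⟩, ?_⟩
    · have := Int.emod_lt_of_pos i' (show (0 : ℤ) < 7 by norm_num)
      have := Int.emod_nonneg i' (show (7 : ℤ) ≠ 0 by norm_num)
      omega
    · have h5 : ((i' % 7).toNat : ℤ) = i' % 7 := Int.toNat_of_nonneg (Int.emod_nonneg _ (by norm_num))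
      rw [← zpow_natCast, h5]
      have h6 : ((orderOf aL : ℕ) : ℤ) = 7 := by rw [h1.oa]; rfl
      rw [← h6, zpow_mod_orderOf]
  have hpb : ∃ i : Fin 7, bL ^ j' = bL ^ (i : ℕ) := by
    refine ⟨⟨(j' % 7).toNat, ?_⟩, ?_⟩
    · have := Int.emod_lt_of_pos j' (show (0 : ℤ) < 7 by norm_num)
      have := Int.emod_nonneg j' (show (7 : ℤ) ≠ 0 by norm_num)
      omega
    · have h5 : ((j' % 7).toNat : ℤ) = j' % 7 := Int.toNat_of_nonneg (Int.emod_nonneg _ (by norm_num))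
      rw [← zpow_natCast, h5]
      have h6 : ((orderOf bL : ℕ) : ℤ) = 7 := by rw [h1.ob]; rfl
      rw [← h6, zpow_mod_orderOf]
  obtain ⟨i, hi⟩ := hpa
  obtain ⟨j, hj⟩ := hpb
  rw [hi, hj] at hij
  have hxv : (x : M6) = D (g ^ (i : ℕ)) (g ^ (j : ℕ)) := by
    rw [hij]
    change (D g 1) ^ (i : ℕ) * (D 1 g) ^ (j : ℕ) = _
    rw [D_pow, D_pow, D_mul, one_pow, one_pow, mul_one, one_mul]
  have hx0 : ¬ (i = 0 ∧ j = 0) := by
    rintro ⟨rfl, rfl⟩
    apply hx1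
    rw [hij, Fin.val_zero, pow_zero, pow_zero, one_mul]
  -- the inverse
  have htm : (t : M6) * D (g ^ (i : ℕ)) (g ^ (j : ℕ)) = D (g ^ (ng i : ℕ)) (g ^ (ng j : ℕ)) * (t : M6) := by
    have h5 : x * t * x = t := by rw [mul_assoc, ht, mul_inv_cancel_left]
    have h6 : (x : M6) * (t : M6) * (x : M6) = t := congrArg Subtype.val h5
    rw [hxv] at h6
    have h7 : D (g ^ (ng i : ℕ)) (g ^ (ng j : ℕ)) * D (g ^ (i : ℕ)) (g ^ (j : ℕ)) = 1 := by
      rw [D_mul, g_ng, g_ng, D_one]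
    calc (t : M6) * D (g ^ (i : ℕ)) (g ^ (j : ℕ))
        = (D (g ^ (ng i : ℕ)) (g ^ (ng j : ℕ)) * D (g ^ (i : ℕ)) (g ^ (j : ℕ))) * ((t : M6) *
          D (g ^ (i : ℕ)) (g ^ (j : ℕ))) := by rw [h7, one_mul]
      _ = D (g ^ (ng i : ℕ)) (g ^ (ng j : ℕ)) * (D (g ^ (i : ℕ)) (g ^ (j : ℕ)) * (t : M6) *
          D (g ^ (i : ℕ)) (g ^ (j : ℕ))) := by simp only [mul_assoc]
      _ = _ := by rw [h6]
  have hzm : (z : M6) * D (g ^ (i : ℕ)) (g ^ (j : ℕ)) = D (g ^ (i : ℕ)) (g ^ (j : ℕ)) * (z : M6) := by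
    rw [← hxv]
    exact congrArg Subtype.val hz
  obtain ⟨y, hy⟩ := exists_right t
  obtain ⟨m, n, hzD, hm, hn, hi0, hj0⟩ := real_cent hx0 hy htm hzm
  have hza : z * aL = aL * z := Subtype.ext (D_comm_a hzD (comm_pow hi0 hm))
  have hzb : z * bL = bL * z := Subtype.ext (D_comm_b hzD (comm_pow hj0 hn))
  exact gd_sl_cent z hza hzb

end Cfsg.Agent.H354.Fac
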