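import Cfsg.Agent.H354.Fac.RealSeven
import Cfsg.Agent.H503.El.CG

/-!
# `NoFac` for `L6(2)` (helper354, S3679)
-/

set_option autoImplicit false
set_option maxRecDepth 100000

namespace Cfsg.Agent.H354.Fac

open Subgroup
open Cfsg.Agent.OrdDiv
open Cfsg.Agent.H899.CG
open Cfsg.Agent.H257.El (Known)
open Cfsg.Agent.H537.Cop (SC)

/-- the elements of order 7 of a simple group of order 504 are real -/
theorem exists_inv {S : Type*} [Group S] [Finite S] (hS : Nat.card S = 504) (hsc : SC 7 S) {x : S}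
    (hx : orderOf x = 7) : ∃ t : S, t * x = x⁻¹ * t := by
  have hp : Nat.Prime 7 := by norm_num
  have hp' : Fact (Nat.Prime 7) := ⟨hp⟩
  set N := normalizer (zpowers x : Set S) with hN
  have h1 := card_normalizer_dvd hp hsc hx
  have h2 := index_modEq_one (p := 7) (by rw [hS]; norm_num) (zpowers x) (by rw [Nat.card_zpowers, hx])
  rw [← hN] at h1 h2
  have h3 := Subgroup.card_mul_index N
  rw [hS] at h3
  have h4 : Nat.card N = 14 := by
    have h5 : Nat.card N ∣ 42 := h1
    have h6 : Nat.card N ∈ Nat.divisors 42 := Nat.mem_divisors.2 ⟨h5, by norm_num⟩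
    have h7 : N.index = 504 / Nat.card N := by
      rw [← h3, Nat.mul_div_cancel_left _ Nat.card_pos]
    rw [h7] at h2
    have h8 : ∀ m ∈ Nat.divisors 42, 504 / m ≡ 1 [MOD 7] → m = 14 := by decide +kernel
    exact h8 _ h6 h2
  have h2' : Fact (Nat.Prime 2) := ⟨Nat.prime_two⟩
  obtain ⟨t, ht⟩ := exists_prime_orderOf_dvd_card' (G := N) 2 (by rw [h4]; norm_num)
  have htS : orderOf (t : S) = 2 := by rw [Subgroup.orderOf_coe, ht]
  have htx : (t : S) * x * (t : S)⁻¹ ∈ zpowers x := ((mem_normalizer_iff.1 t.2) x).1 (mem_zpowers x)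
  obtain ⟨k, hk⟩ := mem_zpowers_iff.1 htx
  have ht2 : (t : S) * (t : S) = 1 := by rw [← pow_two, ← htS, pow_orderOf_eq_one]
  have hinv : (t : S)⁻¹ = t := inv_eq_of_mul_eq_one_right ht2
  -- `k ^ 2 = 1`
  have h5 : x ^ (k * k - 1) = 1 := by
    have h6 : (t : S) * ((t : S) * x * (t : S)⁻¹) * (t : S)⁻¹ = x := by
      rw [hinv]
      calc (t : S) * ((t : S) * x * t) * t = (t * t) * x * (t * t) := by group
        _ = x := by rw [ht2, one_mul, mul_one]
    rw [← hk, ← conj_zpow, ← hk, ← zpow_mul] at h6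
    rw [zpow_sub, h6, zpow_one, mul_inv_cancel]
  have h6 : (7 : ℤ) ∣ k * k - 1 := by
    have := orderOf_dvd_iff_zpow_eq_one.2 h5
    rwa [hx] at this
  have h7 : (7 : ℤ) ∣ (k - 1) * (k + 1) := by
    have : (k - 1) * (k + 1) = k * k - 1 := by ring
    rw [this]; exact h6
  have h7p : Prime (7 : ℤ) := Nat.prime_iff_prime_int.1 hp
  rcases h7p.dvd_or_dvd h7 with h8 | h8
  · exfalso
    have h9 : x ^ k = x := by
      have h10 : x ^ (k - 1) = 1 := orderOf_dvd_iff_zpow_eq_one.1 (by rw [hx]; exact h8)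
      calc x ^ k = x ^ (k - 1) * x := by rw [← zpow_add_one, sub_add_cancel]
        _ = x := by rw [h10, one_mul]
    rw [h9] at hk
    have h11 : (t : S) ∈ centralizer ({x} : Set S) := by
      rw [mem_centralizer_singleton_iff]
      calc (t : S) * x = ((t : S) * x * (t : S)⁻¹) * t := by group
        _ = x * t := by rw [← hk]
    have h12 := orderOf_dvd_natCard (⟨(t : S), h11⟩ : centralizer ({x} : Set S))
    rw [hsc x hx, Subgroup.orderOf_mk, htS] at h12
    norm_num at h12
  · refine ⟨t, ?_⟩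
    have h9 : x ^ k = x⁻¹ := by
      have h10 : x ^ (k + 1) = 1 := orderOf_dvd_iff_zpow_eq_one.1 (by rw [hx]; exact h8)
      calc x ^ k = x ^ (k + 1) * x⁻¹ := by rw [zpow_add_one, mul_inv_cancel_right]
        _ = x⁻¹ := by rw [h10, one_mul]
    rw [h9] at hk
    calc (t : S) * x = ((t : S) * x * (t : S)⁻¹) * t := by group
      _ = x⁻¹ * t := by rw [← hk]

/-- **`S` of order 504 is not a factor in `SL6(2)`** -/
theorem sl_no504 {S : Type*} [Group S] [Finite S] (hS : Nat.card S = 504) (hc : Nat.card SL6 = 20158709760)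
    {φ : S × S →* SL6} (hφ : Function.Injective φ) : False := by
  have hp : Nat.Prime 7 := by norm_num
  have hp' : Fact (Nat.Prime 7) := ⟨hp⟩
  have h2' : Fact (Nat.Prime 2) := ⟨Nat.prime_two⟩
  obtain ⟨hab, -, -, -⟩ := gd_sl_data
  have h3 : ¬ 7 ^ 3 ∣ Nat.card SL6 := by rw [hc]; norm_num
  have hsc : SC 7 S := sc_of hφ hab h3 gd_sl_cent
  obtain ⟨x, hx⟩ := exists_prime_orderOf_dvd_card' (G := S) 7 (by rw [hS]; norm_num)
  obtain ⟨w, hw⟩ := exists_prime_orderOf_dvd_card' (G := S) 2 (by rw [hS]; norm_num)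
  obtain ⟨t, ht⟩ := exists_inv hS hsc hx
  have hpr := pr_of hφ hp hx hx
  obtain ⟨τ, hτ⟩ := exists_conj h3 (hpr.card hp) (hab.card hp)
  set u : SL6 := τ * φ (x, 1) * τ⁻¹ with hu
  have huQ : u ∈ Q aL bL := by
    rw [← hτ]
    exact ⟨φ (x, 1), mem_sup_left (mem_zpowers _), rfl⟩
  have hu1 : u ≠ 1 := by
    intro h
    have h1 : φ (x, 1) = 1 := by
      have : φ (x, 1) = τ⁻¹ * u * τ := by rw [hu]; group
      rw [this, h]
      group
    have h2 := hpr.oa
    rw [h1, orderOf_one] at h2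
    norm_num at h2
  have hxt : φ (t, 1) * φ (x, 1) = (φ (x, 1))⁻¹ * φ (t, 1) := by
    rw [← map_inv, ← map_mul, ← map_mul]
    congr 1
    exact Prod.ext ht (by simp)
  have hxw : φ (1, w) * φ (x, 1) = φ (x, 1) * φ (1, w) := by
    rw [← map_mul, ← map_mul]
    congr 1
    exact Prod.ext (by simp) (by simp)
  have hreal : (τ * φ (t, 1) * τ⁻¹) * u = u⁻¹ * (τ * φ (t, 1) * τ⁻¹) := by
    calc (τ * φ (t, 1) * τ⁻¹) * u = τ * (φ (t, 1) * φ (x, 1)) * τ⁻¹ := by rw [hu]; group
      _ = τ * ((φ (x, 1))⁻¹ * φ (t, 1)) * τ⁻¹ := by rw [hxt]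
      _ = _ := by rw [hu]; group
  have hcom : (τ * φ (1, w) * τ⁻¹) * u = u * (τ * φ (1, w) * τ⁻¹) := by
    calc (τ * φ (1, w) * τ⁻¹) * u = τ * (φ (1, w) * φ (x, 1)) * τ⁻¹ := by rw [hu]; group
      _ = τ * (φ (x, 1) * φ (1, w)) * τ⁻¹ := by rw [hxw]
      _ = _ := by rw [hu]; group
  have hz := real_sl huQ hu1 hreal hcom
  -- an element of `Q` has order dividing 49
  have h1 := orderOf_dvd_natCard (⟨_, hz⟩ : Q aL bL)
  rw [hab.card hp, Subgroup.orderOf_mk] at h1
  have h4 : orderOf (τ * φ (1, w) * τ⁻¹) = 2 := by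
    have h5 : orderOf (φ (1, w)) = 2 := by
      rw [orderOf_injective φ hφ, ← hw]
      exact orderOf_injective (MonoidHom.inr S S) (fun a b h => congrArg Prod.snd h) w
    exact (orderOf_injective (MulAut.conj τ).toMonoidHom (MulAut.conj τ).injective _).trans h5
  rw [h4] at h1
  norm_num at h1

/-- the factorizations of `SL6(2)` with the possible indices -/
theorem sl_false (tab : OrderTable.{0}) (known : Known.{0}) (hc : Nat.card SL6 = 20158709760)
    {S : Type} [Group S] [Finite S] (hS : IsSimpleGroup S) (hna : ¬ IsMulCommutative S) {A M : Subgroup SL6} {j : ℕ}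
    (hk : M.index ∈ [63, 2016, 3969, 127008, 4064256, 130056192]) (hF : Fac SL6 A M S j) : False := by
  have hp : Fact (Nat.Prime 7) := ⟨by norm_num⟩
  have hnm : 20158709760 = 8064 ^ 2 * 310 := by norm_num
  have hd : Squarefree 310 := by decide +kernel
  have main : ∀ {k : ℕ}, 7 ∣ k → ¬ 7 ^ 2 ∣ k → M.index = k →
      (((cands [(2, 7), (3, 2), (7, 1)] 8064).all fun g => !decide (7 ∣ ordN g) ||
        [(5, 1), (3, 2), (3, 3), (0, 0)].any (chk 7 k (ordN g))) = true) → False := by
    intro k h1 h2 h3 h4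
    exact GD.false tab known gd_sl hc hnm (by norm_num) hd (by decide +kernel) (by norm_num) h1 h2 _ h4 hS hna h3 hF
  -- the order of `S` in the other cases
  have h504 : ∀ {k : ℕ}, 7 ∣ k → M.index = k →
      (((cands [(2, 7), (3, 2), (7, 1)] 8064).all fun g => decide (ordN g = 504) ||
        !decide (k ∣ ordN g ^ 2)) = true) → False := by
    intro k h1 h2 h3
    have h7 : Nat.card S ^ 2 ∣ 8064 ^ 2 * 310 := by
      rw [← hnm, ← hc]
      exact (pow_dvd_pow _ hF.two_le).trans hF.pow_dvd_card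
    obtain ⟨g, hg, -, hgS⟩ := exists_good tab (known S) (fun h => hna ⟨⟨h⟩⟩) (l := [(2, 7), (3, 2), (7, 1)])
      (by decide +kernel) (dvd_of_sq_dvd (by norm_num) hd h7)
    have hpS : 7 ∣ Nat.card S := hp.out.dvd_of_dvd_pow ((h1.trans (h2 ▸ hF.index_dvd)))
    have hj : j = 2 := by
      have h8 := hF.two_le
      have h9 : ¬ 3 ≤ j := fun h3j => absurd (((pow_dvd_pow 7 h3j).trans (pow_dvd_pow_of_dvd hpS j)).trans
        (hc ▸ hF.pow_dvd_card)) (by norm_num)
      omega
    subst hj
    obtain ⟨φ, hφ, hr⟩ := exists_phi hF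
    rw [List.all_eq_true] at h3
    have h8 := h3 g hg
    rw [← hgS, Bool.or_eq_true] at h8
    rcases h8 with h8 | h8
    · exact sl_no504 (of_decide_eq_true h8) hc hφ
    · simp only [Bool.not_eq_true', decide_eq_false_iff_not] at h8
      exact h8 (h2 ▸ hF.index_dvd)
  simp only [List.mem_cons, List.not_mem_nil, or_false] at hk
  rcases hk with h | h | h | h | h | h
  · exact main (by norm_num) (by norm_num) h (by decide +kernel)
  · exact main (by norm_num) (by norm_num) h (by decide +kernel)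
  · exact h504 (by norm_num) h (by decide +kernel)
  · exact h504 (by norm_num) h (by decide +kernel)
  · exact h504 (by norm_num) h (by decide +kernel)
  · exact h504 (by norm_num) h (by decide +kernel)

/-- **`L6(2)`** -/
theorem noFac_psl62 (tab : OrderTable.{0}) (known : Known.{0}) (F : Type) [Field F] [Fintype F]
    (hF : Fintype.card F = 2) : NoFac (Matrix.ProjectiveSpecialLinearGroup (Fin 6) F) := by
  intro S _ _ hS hna A M j hM hfac
  have hc := H503.El.card_psl62 hF
  let e1 : Matrix.SpecialLinearGroup (Fin 6) (ZMod 2) ≃* Matrix.ProjectiveSpecialLinearGroup (Fin 6) (ZMod 2) :=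
    MulEquiv.ofBijective (QuotientGroup.mk' (center SL6))
      ⟨by rw [← MonoidHom.ker_eq_bot_iff, QuotientGroup.ker_mk', gd_sl.center_eq_bot (by norm_num)],
        QuotientGroup.mk'_surjective _⟩
  let e : SL6 ≃* Matrix.ProjectiveSpecialLinearGroup (Fin 6) F :=
    e1.trans (LieClassical.FieldTransfer.pslCongr (ZMod.ringEquivOfPrime F Nat.prime_two hF))
  have hcS : Nat.card SL6 = 20158709760 := by rw [Nat.card_congr e.toEquiv, hc]
  have hfin : Finite (Matrix.ProjectiveSpecialLinearGroup (Fin 6) F) :=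
    Nat.finite_of_card_ne_zero (by rw [hc]; norm_num)
  rcases H503.El.cgap_psl62 tab known F hF M hM.1 with h | h
  · exact hfac.not_cGap h
  · have hi : (M.map e.symm.toMonoidHom).index = M.index := by
      exact Subgroup.index_map_equiv M e.symm
    have hmul := Subgroup.card_mul_index M
    rw [hc] at hmul
    refine sl_false tab known hcS hS hna ?_ (hfac.congr e.symm)
    rw [hi]
    simp only [List.mem_cons, List.not_mem_nil, or_false] at h ⊢
    rcases h with h | h | h | h | h | h <;> rw [h] at hmul <;> omega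

end Cfsg.Agent.H354.Fac
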