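import Cfsg.Agent.H354.Fac.RowS
import Cfsg.Agent.H884.RowAllD
import Cfsg.Agent.H81.CycSInd
import Cfsg.Agent.H81.SaxSp
import Cfsg.Agent.S0818

/-!
# `NoFac` for `Sp12(2)` (helper354, S3679)
-/

set_option autoImplicit false
set_option maxRecDepth 100000

namespace Cfsg.Agent.H354.Fac

open Subgroup
open Cfsg.Agent.OrdDiv
open Cfsg.Agent.H436 (IsNamed)
open Cfsg.Agent.H899.CG
open Cfsg.Agent.H257.El (Known)
open Cfsg.Agent.H884.Row

/-- an almost simple group embeds in the automorphism group of the socle -/
theorem card_dvd_aut {M : Type*} [Group M] [Finite M] (S : Subgroup M) (hS : S.Normal)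
    (hC : centralizer (S : Set M) = ⊥) : Nat.card M ∣ Nat.card (MulAut S) := by
  have h1 : Function.Injective (MulAut.conjNormal : M →* MulAut S) := by
    rw [← MonoidHom.ker_eq_bot_iff, eq_bot_iff, ← hC]
    intro g hg
    rw [mem_centralizer_iff]
    intro s hs
    have h2 : (MulAut.conjNormal g : MulAut S) ⟨s, hs⟩ = ⟨s, hs⟩ := by
      have h3 : (MulAut.conjNormal g : MulAut S) = 1 := hg
      rw [h3]
      rfl
    have h3 : g * s * g⁻¹ = s := by
      have h4 := congrArg Subtype.val h2
      rwa [MulAut.conjNormal_apply] at h4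
    calc s * g = (g * s * g⁻¹) * g := by rw [h3]
      _ = g * s := by group
  exact Subgroup.card_dvd_of_injective _ h1

/-- `M` almost simple with socle `Ω⁻12(2)` -/
theorem card_of_ominus {T : Type} [Group T] {M : Subgroup T} [Finite M] {S : Subgroup M} (hSn : S.Normal)
    (hC : centralizer (S : Set M) = ⊥) (hS : IsNamed (.ominus 6 2) S) :
    Nat.card M = 51615733565620224000 ∨ Nat.card M = 2 * 51615733565620224000 := by
  have hn : Nat.card S = 51615733565620224000 := by
    rw [hS.ord]
    decide +kernel
  have h1 : Nat.card (MulAut S) = 2 * 51615733565620224000 := by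
    obtain ⟨F, _, _, a, b, hF, hab, ⟨e⟩⟩ := hS.real
    have : Fact (Nat.Prime 2) := ⟨Nat.prime_two⟩
    have h2 := S0818.result (F := F) 2 1 le_rfl (by rw [hF]; norm_num) 6 (by norm_num) a b hab
    rw [← Nat.card_congr (MulAut.congr e).toEquiv, ← Nat.card_congr e.toEquiv, hn] at h2
    rw [h2]
    norm_num
  have h2 := card_dvd_aut S hSn hC
  rw [h1] at h2
  have h3 : 51615733565620224000 ∣ Nat.card M := hn ▸ Subgroup.card_subgroup_dvd_card S
  obtain ⟨c, hc⟩ := h3
  rw [hc, mul_comm 2] at h2
  have h4 : c ∣ 2 := (Nat.mul_dvd_mul_iff_left (by norm_num)).1 h2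
  rcases (Nat.dvd_prime Nat.prime_two).1 h4 with rfl | rfl
  · left; rw [hc]
  · right; rw [hc, mul_comm]

/-- **`Sp12(2)`** -/
theorem noFac_psp62 (tab : OrderTable.{0}) (known : Known.{0}) (F : Type) [Field F] [Fintype F]
    (hF : Fintype.card F = 2) : NoFac (PSp 6 F) := by
  intro S _ _ hS hna A M j hM hfac
  have hn := card_psp62 F hF
  have hfin : Finite (PSp 6 F) := Nat.finite_of_card_ne_zero (by rw [hn]; norm_num)
  have hmul := Subgroup.card_mul_index M
  rw [hn] at hmul
  rcases row_psp tab known (F := F) (m := 6) (by norm_num) (by norm_num) hM.1 with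
    h | ⟨-, -, Q, hQ1, hQ2, hQ3, hpol, hle⟩ | ⟨-, S', h1, -, -, h2, h3, -⟩
  · exact hfac.not_iGap h
  · -- the orthogonal group
    set ψ := H81.SaxSp.toPSp (m := 6) hpol with hψ
    have hinj : Function.Injective ψ := by
      have hc : center (Matrix.symplecticGroup (Fin 6) F) = ⊥ := by
        rw [← Subgroup.card_eq_one, S0246.result hF 6 (by norm_num)]
        rfl
      have h1 : Function.Injective (QuotientGroup.mk' (center (Matrix.symplecticGroup (Fin 6) F))) := by
        rw [← MonoidHom.ker_eq_bot_iff, QuotientGroup.ker_mk', hc]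
      have h2 : Function.Injective (H81.SaxSp.toSp (m := 6) hpol) := by
        intro x y hxy
        exact Subtype.ext (Units.ext (congrArg Subtype.val hxy))
      exact h1.comp h2
    have hcN : Nat.card ψ.range = 2 * 51615733565620224000 := by
      rw [← Nat.card_congr (ψ.ofInjective hinj).toEquiv,
        H81.CycS.card_minus (m := 6) (by norm_num) (by simp) hQ2 hQ3, hF]
      decide +kernel
    have hmulN := Subgroup.card_mul_index ψ.range
    rw [hn, hcN] at hmulN
    have hidx : ψ.range.index = 2016 := by omega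
    have hMN : M ≤ ψ.range := by
      intro x hx
      obtain ⟨g, hg⟩ := H81.SaxSp.exists_toPSp (m := 6) (by norm_num) hpol (L := M) (fun y hy => by
        refine ⟨1, fun v => ?_⟩
        rw [Units.val_one, one_mul]
        exact (Cfsg.Agent.ClassicalGeometry.Reflection.mem_isometryGroup_iff _ _).1 (hle hy) v) hx
      exact ⟨g, hg⟩
    exact sp_false tab known hF hS hna (.inl hidx) (hfac.mono hMN (by
      intro ht
      rw [ht, Subgroup.index_top] at hidx
      norm_num at hidx))
  · have h4 : IsNamed (.ominus 6 2) S' := by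
      rw [← hF]
      exact h3
    refine sp_false tab known hF hS hna ?_ hfac
    rcases card_of_ominus h1 h2 h4 with h5 | h5
    · right
      rw [h5] at hmul
      omega
    · left
      rw [h5] at hmul
      omega

end Cfsg.Agent.H354.Fac
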