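import Cfsg.Agent.H354.Fac.TOm
import Cfsg.Agent.H354.Fac.RowSp
import Cfsg.Agent.H354.Fac.Nons
import Cfsg.Agent.LieClassical.OrthCenter
import Cfsg.Agent.S0814

/-!
# `NoFac` for `Ω⁺12(2)` (helper354, S3679)
-/

set_option autoImplicit false
set_option maxRecDepth 100000

namespace Cfsg.Agent.H354.Fac

open Subgroup Cfsg
open Cfsg.Agent.OrdDiv
open Cfsg.Agent.H436 (IsNamed)
open Cfsg.Agent.H899.CG
open Cfsg.Agent.H257.El (Known)
open Cfsg.Agent.H884.Row
open Cfsg.Agent.LieClassical Cfsg.Agent.LieClassical.OrthForms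

theorem center_omega_plus (F : Type) [Field F] [Fintype F] (hF : Fintype.card F = 2) (m : ℕ) (hm : 2 ≤ m) :
    center (Omega F (quadFormPlus m F)) = ⊥ := by
  have hch : CharP F 2 := charP_of Nat.prime_two (by rw [hF])
  have hnd := nondeg_plusForm m F
  have h1 : center (Omega F ⇑(plusForm m F)) = ⊥ := by
    refine OrthCenter.center_omega_eq_bot_char_two CharTwo.two_eq_zero ?_ ?_ ?_
    · refine ⟨fun x hx => hnd x fun y => hx y, fun x hx => hnd x fun y => ?_⟩
      rw [QuadraticMap.polar_comm]
      exact hx y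
    · simp only [Fintype.card_sum, Fintype.card_fin]
      omega
    · refine ⟨Pi.single (Sum.inl ⟨0, by omega⟩) 1, ?_, ?_⟩
      · intro h0
        have := congrFun h0 (Sum.inl ⟨0, by omega⟩)
        simp at this
      · rw [coe_plusForm, quadFormPlus_apply]
        rw [Finset.sum_eq_zero fun i _ => by simp]
  rwa [coe_plusForm] at h1

theorem card_pom62 (F : Type) [Field F] [Fintype F] (hF : Fintype.card F = 2) :
    Nat.card (POmega F (quadFormPlus 6 F)) = 50027557148216524800 := by
  have h1 := S0293.result hF 6 (by norm_num)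
  have h2 : 2 ^ (6 * (6 - 1)) * (2 ^ 6 - 1) * ∏ i ∈ Finset.range (6 - 1), (2 ^ (2 * (i + 1)) - 1) =
      50027557148216524800 := by decide +kernel
  have h3 : Nat.gcd 4 (2 ^ 6 - 1) = 1 := by decide +kernel
  rwa [h2, h3, one_mul] at h1

theorem om_chk1 : ((cands [(2, 15), (3, 4), (5, 1), (7, 1)] 92897280).all fun g => !decide (7 ∣ ordN g) ||
    [(5, 1), (3, 2), (3, 3), (0, 0)].any (chk 7 1008 (ordN g))) = true := by decide +kernel

theorem om_chk2 : ((cands [(2, 15), (3, 4), (5, 1), (7, 1)] 92897280).all fun g => !decide (7 ∣ ordN g) ||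
    [(5, 1), (3, 2), (3, 3), (0, 0)].any (chk 7 2016 (ordN g))) = true := by decide +kernel

/-- **the two indices** -/
theorem om_false (tab : OrderTable.{0}) (known : Known.{0}) {F : Type} [Field F] [Fintype F]
    (hF : Fintype.card F = 2) {S : Type} [Group S] [Finite S] (hS : IsSimpleGroup S) (hna : ¬ IsMulCommutative S)
    {A M : Subgroup (POmega F (quadFormPlus 6 F))} {j : ℕ} (hk : M.index = 1008 ∨ M.index = 2016)
    (hfac : Fac (POmega F (quadFormPlus 6 F)) A M S j) : False := by
  have hp : Fact (Nat.Prime 7) := ⟨by norm_num⟩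
  have hn := card_pom62 F hF
  have hfin : Finite (POmega F (quadFormPlus 6 F)) := Nat.finite_of_card_ne_zero (by rw [hn]; norm_num)
  have hnm : 50027557148216524800 = 92897280 ^ 2 * 5797 := by norm_num
  have hd : Squarefree 5797 := by decide +kernel
  have hv : OrdDiv.valid [(2, 15), (3, 4), (5, 1), (7, 1)] 92897280 = true := by decide +kernel
  rcases hk with hk | hk
  · exact GD.false tab known (gd_pom F hF) hn hnm (by norm_num) hd hv (by norm_num) (kk := 1008) (by norm_num)
      (by norm_num) _ om_chk1 hS hna hk hfac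
  · exact GD.false tab known (gd_pom F hF) hn hnm (by norm_num) hd hv (by norm_num) (kk := 2016) (by norm_num)
      (by norm_num) _ om_chk2 hS hna hk hfac

/-- `M` almost simple with socle `Sp10(2)` -/
theorem card_of_psp52 {T : Type} [Group T] {M : Subgroup T} [Finite M] {S : Subgroup M} (hSn : S.Normal)
    (hC : centralizer (S : Set M) = ⊥) (hS : IsNamed (.psp 5 2) S) :
    Nat.card M = 24815256521932800 := by
  have hn : Nat.card S = 24815256521932800 := by
    rw [hS.ord]
    decide +kernel
  have h1 : Nat.card (MulAut S) = 24815256521932800 := by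
    obtain ⟨F, _, _, hF, ⟨e⟩⟩ := hS.real
    have : Fact (Nat.Prime 2) := ⟨Nat.prime_two⟩
    have h2 := S0814.result (F := F) 2 1 le_rfl (by rw [hF]; norm_num) 5 (by norm_num) (by norm_num)
    rw [← Nat.card_congr (MulAut.congr e).toEquiv, ← Nat.card_congr e.toEquiv, hn] at h2
    rw [h2]
    norm_num
  have h2 := card_dvd_aut S hSn hC
  rw [h1] at h2
  have h3 : 24815256521932800 ∣ Nat.card M := hn ▸ Subgroup.card_subgroup_dvd_card S
  exact Nat.dvd_antisymm h2 h3

/-- **`Ω⁺12(2)`** -/
theorem noFac_pom62 (tab : OrderTable.{0}) (known : Known.{0}) (F : Type) [Field F] [Fintype F]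
    (hF : Fintype.card F = 2) : NoFac (POmega F (quadFormPlus 6 F)) := by
  intro S _ _ hS hna A M j hM hfac
  have hn := card_pom62 F hF
  have hfin : Finite (POmega F (quadFormPlus 6 F)) := Nat.finite_of_card_ne_zero (by rw [hn]; norm_num)
  have hmul := Subgroup.card_mul_index M
  rw [hn] at hmul
  rcases row_oplus tab known (F := F) (m := 6) (by norm_num) hM.1 with
    h | ⟨-, v, hv, hle⟩ | ⟨-, ⟨S', h1, -, -, h2, h3, -⟩ | ⟨S', h1, -, -, h2, h3, -⟩⟩
  · exact hfac.not_iGap h
  · obtain ⟨N, hMN, hN1, hN2⟩ := exists_stab hF (by norm_num) (center_omega_plus F hF 6 (by norm_num)) hv hle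
    norm_num at hN1 hN2
    have hpos : 0 < N.index := Nat.pos_of_ne_zero Subgroup.index_ne_zero_of_finite
    have hk : N.index = 1008 ∨ N.index = 2016 := by omega
    refine om_false tab known hF hS hna hk (hfac.mono hMN ?_)
    rintro rfl
    rw [Subgroup.index_top] at hk
    omega
  · have h4 : IsNamed (.psp 5 2) S' := by
      rw [← hF]
      exact h3
    refine om_false tab known hF hS hna ?_ hfac
    right
    rw [card_of_psp52 h1 h2 h4] at hmul
    omega
  · exfalso
    have h5 := h3.cond
    rw [hF] at h5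
    have h6 : Odd 2 := h5.2.1
    revert h6
    decide

end Cfsg.Agent.H354.Fac
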