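import Cfsg.Agent.H354.Fac.TO8
import Cfsg.Agent.H884.Oc.PTwo
import Cfsg.Agent.H427.Fc.POne
import Cfsg.Agent.H953.Cyc.O8k
import Cfsg.Agent.H503.El.CG

/-!
# `NoFac` for `Ω⁺8(2)` (helper354, S3679)
-/

set_option autoImplicit false
set_option maxRecDepth 100000

namespace Cfsg.Agent.H354.Fac.OE

open Subgroup Cfsg
open Cfsg.Agent.OrdDiv
open Cfsg.Agent.H899.CG
open Cfsg.Agent.H257.El (Known)
open Cfsg.Agent.H953.O8
open Cfsg.Agent.H884.El Cfsg.Agent.H436

theorem o8_cands : ((cands [(2, 6), (3, 2), (5, 1)] 2880).all fun g =>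
    decide (ordN g = 60) || decide (ordN g = 360)) = true := by decide +kernel

theorem o8_chk : ((cands [(2, 6), (3, 2), (5, 1)] 2880).all fun g => !decide (5 ∣ ordN g) ||
    [(5, 1), (3, 2), (3, 3), (0, 0)].any (chk 5 120 (ordN g))) = true := by decide +kernel

/-- the remaining part is `P1` -/
theorem p1 : Cfsg.Agent.H884.Oc.P1 := by
  intro M O hO h2 h1 h7 h49 h27
  exact Cfsg.Agent.H427.Fc.p1 (ZMod.card 2) h2 h1 h7 h49 h27

/-- a maximal subgroup of index at most `k` -/
theorem card_dvd_factorial {T : Type*} [Group T] [Finite T] (hs : IsSimpleGroup T) {M : Subgroup T} (hM : M ≠ ⊤) :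
    Nat.card T ∣ M.index.factorial := by
  classical
  have h1 : Function.Injective (MulAction.toPermHom T (T ⧸ M)) := by
    rw [← MonoidHom.ker_eq_bot_iff, ← Subgroup.normalCore_eq_ker]
    rcases hs.eq_bot_or_eq_top_of_normal M.normalCore inferInstance with h | h
    · exact h
    · exact absurd (top_le_iff.1 (h ▸ M.normalCore_le)) hM
  have h2 := Subgroup.card_dvd_of_injective _ h1
  rwa [Nat.card_perm, ← Subgroup.index_eq_card] at h2

theorem ord_two_five : orderOf ((2 : ℕ) : ZMod 5) = 4 := by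
  have h0 : ((2 : ℕ) : ZMod 5) = 2 := rfl
  have h2 := orderOf_eq_prime_pow (x := (2 : ZMod 5)) (p := 2) (n := 1) (by decide) (by decide)
  rw [h0, h2]
  norm_num

/-- **`Ω⁺8(2)`** -/
theorem noFac_pom42 (tab : OrderTable.{0}) (known : Known.{0}) (F : Type) [Field F] [Fintype F]
    (hF : Fintype.card F = 2) : NoFac (POmega F (quadFormPlus 4 F)) := by
  intro S _ _ hS hna A M j hM hfac
  have hsT : IsSimpleGroup (POmega F (quadFormPlus 4 F)) := S0296.result 4 le_rfl
  have hn : Nat.card (POmega F (quadFormPlus 4 F)) = 174182400 := by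
    rw [← Nat.card_congr (Cfsg.Agent.H503.El.pomCongr hF).toEquiv]
    exact Cfsg.Agent.H503.El.O8.card_t8
  have hfin : Finite (POmega F (quadFormPlus 4 F)) := Nat.finite_of_card_ne_zero (by rw [hn]; norm_num)
  have hp : Fact (Nat.Prime 5) := ⟨by norm_num⟩
  -- the order of `S`
  have hS1 : Nat.card S = 60 ∨ Nat.card S = 360 := by
    have h1 : Nat.card S ^ 2 ∣ 2880 ^ 2 * 21 := by
      have h2 := (pow_dvd_pow (Nat.card S) hfac.two_le).trans hfac.pow_dvd_card
      rw [hn] at h2
      exact h2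
    have h2 : Nat.card S ∣ 2880 := dvd_of_sq_dvd (by norm_num) (by decide +kernel) h1
    obtain ⟨g, hg, -, hgS⟩ := exists_good tab (known S) (fun h => hna ⟨⟨h⟩⟩) (l := [(2, 6), (3, 2), (5, 1)])
      (by decide +kernel) h2
    have h3 := o8_cands
    rw [List.all_eq_true] at h3
    have h4 := h3 g hg
    simp only [Bool.or_eq_true, decide_eq_true_eq] at h4
    rwa [← hgS] at h4
  have h5 : 5 ∣ Nat.card S := by rcases hS1 with h | h <;> rw [h] <;> norm_num
  -- `S ≅ A5`
  have hF1 : Fintype.card F = 2 ^ 1 := by rw [hF, pow_one]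
  have hrP : Prim 2 (4 * 1) 5 := by
    refine ⟨by norm_num, fun m => ?_, by norm_num⟩
    rw [Lib.Zsigmondy.dvd_pow_sub_one_iff (by norm_num), ord_two_five]
  have hr : PP (Nat.card F) 4 5 := by
    rw [Nat.card_eq_fintype_card, hF]
    exact ⟨by norm_num, ord_two_five⟩
  obtain rfl := fac_eq_two hr hfac h5
  have hS2 : Nat.card S = 60 := by
    obtain ⟨ψ, hψ, -⟩ := hfac.exists_hom
    rcases struct hr Nat.prime_two le_rfl hF1 hrP hS hna ψ hψ h5 with ⟨E, i1, i2, hE, ⟨eE⟩⟩ | ⟨-, h1⟩ | h1
    · have h1 := ClassicalGeometry.PSL2Basic.card_PSL2_gcd E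
      rw [hE, ← Nat.card_congr eE.toEquiv] at h1
      norm_num at h1
      omega
    · have h2 := Nat.le_of_dvd (by norm_num) h1
      omega
    · norm_num at h1
      have h2 := Nat.le_of_dvd (by norm_num) h1
      omega
  -- the index
  have hmul := Subgroup.card_mul_index M
  rw [hn] at hmul
  have hidx := hfac.index_dvd
  rw [hS2] at hidx
  rcases Cfsg.Agent.H503.El.cgap_o8p tab known F hF M hM.1 with h | h
  · exact hfac.not_cGap h
  · have h6 : M.index = 15 ∨ M.index = 120 ∨ M.index ∈ [36, 225, 450, 1800, 3600] := by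
      have h7 : ∀ x ∈ [7, 14, 21, 42, 56, 112, 168, 336, 448, 504, 896, 1344, 1512, 2520, 2688, 3584, 4032, 5040,
          6048, 7168, 10752, 12096, 20160, 21504, 28672, 32256, 40320, 48384, 86016, 96768, 161280, 181440, 258048,
          322560, 387072, 604800, 774144, 1290240, 1451520, 4838400, 11612160],
          174182400 / x ∣ 3600 → 174182400 / x = 15 ∨ 174182400 / x = 120 ∨ 174182400 / x ∈ [36, 225, 450, 1800, 3600] := by
        decide +kernel
      have h8 : 174182400 / Nat.card M = M.index := by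
        rw [← hmul, Nat.mul_div_cancel_left _ Nat.card_pos]
      have h9 := h7 _ h
      rw [h8] at h9
      exact h9 (hidx.trans (by norm_num))
    rcases h6 with h6 | h6 | h6
    · have h7 := card_dvd_factorial hsT hM.1
      rw [h6, hn] at h7
      revert h7
      decide +kernel
    · exact GD.false tab known (gd_pom4 F hF) hn (m := 2880) (d := 21) (by norm_num) (by norm_num)
        (by decide +kernel) (l := [(2, 6), (3, 2), (5, 1)]) (by decide +kernel) (by norm_num) (kk := 120) (by norm_num)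
        (by norm_num) _ o8_chk hS hna h6 hfac
    · exact Cfsg.Agent.H884.Oc.p2 tab known p1 F hF hM h6

end Cfsg.Agent.H354.Fac.OE
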