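import Cfsg.Agent.H354.Fac.TSp
import Cfsg.Agent.H354.Fac.Diag
import Cfsg.Agent.S0245

/-!
# `Sp12(2)`: no factorization with a subgroup of index 2016 or 4032 (helper354, S3679)
-/

set_option autoImplicit false
set_option maxRecDepth 100000

namespace Cfsg.Agent.H354.Fac

open Subgroup
open Cfsg.Agent.OrdDiv
open Cfsg.Agent.H899.CG
open Cfsg.Agent.H257.El (Known)
open Cfsg.Agent.H537.Cop (SC)

theorem card_psp62 (F : Type) [Field F] [Fintype F] (hF : Fintype.card F = 2) :
    Nat.card (PSp 6 F) = 208114637736580743168000 := by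
  have h1 : center (Matrix.symplecticGroup (Fin 6) F) = ⊥ := by
    rw [← Subgroup.card_eq_one, S0246.result hF 6 (by norm_num)]
    rfl
  have h2 := Subgroup.card_mul_index (center (Matrix.symplecticGroup (Fin 6) F))
  rw [h1, Subgroup.card_bot, one_mul, S0245.result hF 6] at h2
  change Nat.card (Matrix.symplecticGroup (Fin 6) F ⧸ center (Matrix.symplecticGroup (Fin 6) F)) = _
  rw [← Subgroup.index_eq_card, h1, h2]
  decide +kernel

/-- the exceptional orders -/
theorem sp_chk1 : ((cands [(2, 18), (3, 4), (5, 1), (7, 1)] 743178240).all fun g => !decide (7 ∣ ordN g) ||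
    [(5, 1), (3, 2), (3, 3), (0, 0)].any (chk 7 2016 (ordN g))) = true := by decide +kernel

theorem sp_chk2 : ((cands [(2, 18), (3, 4), (5, 1), (7, 1)] 743178240).all fun g => decide (ordN g = 168) ||
    !decide (7 ∣ ordN g) || [(5, 1), (3, 2), (3, 3), (0, 0)].any (chk 7 4032 (ordN g))) = true := by decide +kernel

/-- **the two indices** -/
theorem sp_false (tab : OrderTable.{0}) (known : Known.{0}) {F : Type} [Field F] [Fintype F]
    (hF : Fintype.card F = 2) {S : Type} [Group S] [Finite S] (hS : IsSimpleGroup S) (hna : ¬ IsMulCommutative S)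
    {A M : Subgroup (PSp 6 F)} {j : ℕ} (hk : M.index = 2016 ∨ M.index = 4032) (hfac : Fac (PSp 6 F) A M S j) :
    False := by
  have hp : Fact (Nat.Prime 7) := ⟨by norm_num⟩
  have hn := card_psp62 F hF
  have hfin : Finite (PSp 6 F) := Nat.finite_of_card_ne_zero (by rw [hn]; norm_num)
  have hnm : 208114637736580743168000 = 743178240 ^ 2 * 376805 := by norm_num
  have hd : Squarefree 376805 := by decide +kernel
  have hv : OrdDiv.valid [(2, 18), (3, 4), (5, 1), (7, 1)] 743178240 = true := by decide +kernel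
  rcases hk with hk | hk
  · exact GD.false tab known (gd_psp F hF) hn hnm (by norm_num) hd hv (by norm_num) (kk := 2016) (by norm_num)
      (by norm_num) _ sp_chk1 hS hna hk hfac
  · obtain ⟨a, b, s, c, h1, h2, h3, h4, h5, h6⟩ := gd_psp F hF
    obtain ⟨hfac, hpS, hpM, ⟨g, hg, hgS⟩, φ, hφ, hr, hdg, hcard⟩ := GD.red tab known h1 h2 h3 h4 h5 h6 hn hnm
      (by norm_num) hd hv (by norm_num) (kk := 4032) (by norm_num) (by norm_num) hna hS hk hfac
    have hc := sp_chk2
    rw [List.all_eq_true] at hc
    have h8 := hc g hg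
    rw [← hgS, Bool.or_eq_true, Bool.or_eq_true] at h8
    rcases h8 with (h8 | h8) | h8
    · have h168 : Nat.card S = 168 := of_decide_eq_true h8
      have h7 : Nat.card (M.comap φ) = 7 := by
        rw [h168] at hcard
        omega
      exact diag_false h168 hφ hr hfac.fac h1 (by rw [hn]; norm_num) h3 h4 hpM hdg h7
    · simp only [Bool.not_eq_true', decide_eq_false_iff_not] at h8
      exact h8 hpS
    · rw [List.any_eq_true] at h8
      obtain ⟨w, -, hw⟩ := h8
      exact hdg.false_of_chk hS hna rfl hcard hw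

end Cfsg.Agent.H354.Fac
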