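import Cfsg.Agent.H354.Fac.MFour
import Cfsg.Agent.H354.Fac.TSp
import Cfsg.Agent.H354.Fac.Nons
import Cfsg.Agent.H503.El.O8
import Cfsg.Agent.H81.SaxSp
import Cfsg.Agent.UGT.U2.Rec.Congr

/-!
# The data in `Ω⁺8(2)` and `Sp8(2)`, `p = 5` (helper354, S3679)
-/

set_option autoImplicit false
set_option maxRecDepth 100000

namespace Cfsg.Agent.H354.Fac.OE

open Matrix Subgroup Cfsg.Agent.H354.Fac.MF
open Cfsg.Agent.H503.El.O8 (S8 T8 rho e8 rho_injective rho_iso center_s8)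

theorem J_eq : Matrix.J (Fin 4) (ZMod 2) = fromBlocks 0 1 1 0 := by
  rw [Matrix.J]
  congr 1
  ext i j
  rw [Matrix.neg_apply]
  exact ZMod.neg_eq_self_mod_two _

abbrev Sp8 : Type := symplecticGroup (Fin 4) (ZMod 2)

theorem mem_sp {z : M8} : z ∈ symplecticGroup (Fin 4) (ZMod 2) ↔
    z * fromBlocks 0 1 1 0 * zᵀ = fromBlocks 0 1 1 0 := by
  rw [SymplecticGroup.mem_iff, J_eq]

theorem hpol (u v : Fin 4 ⊕ Fin 4 → ZMod 2) :
    QuadraticMap.polar (quadFormPlus 4 (ZMod 2)) u v = sympForm 4 (ZMod 2) u v := by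
  have h1 : Matrix.J (Fin 4) (ZMod 2) *ᵥ v = Sum.elim (v ∘ Sum.inr) (v ∘ Sum.inl) := by
    rw [J_eq]
    conv_lhs => rw [← Sum.elim_comp_inl_inr v]
    rw [fromBlocks_mulVec]
    simp
  have q_eq : ∀ v : Fin 4 ⊕ Fin 4 → ZMod 2, quadFormPlus 4 (ZMod 2) v = (v ∘ Sum.inl) ⬝ᵥ (v ∘ Sum.inr) :=
    fun v => rfl
  rw [sympForm, h1]
  conv_rhs => rw [← Sum.elim_comp_inl_inr u]
  rw [sumElim_dotProduct_sumElim, QuadraticMap.polar, q_eq, q_eq, q_eq]
  have h2 : (u + v) ∘ Sum.inl = u ∘ Sum.inl + v ∘ Sum.inl := rfl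
  have h3 : (u + v) ∘ Sum.inr = u ∘ Sum.inr + v ∘ Sum.inr := rfl
  rw [h2, h3, add_dotProduct, dotProduct_add, dotProduct_add, dotProduct_comm (v ∘ Sum.inl) (u ∘ Sum.inr)]
  ring

/-- into the symplectic group -/
def tS : S8 →* Sp8 := (H81.SaxSp.toSp hpol).comp (Omega (ZMod 2) (quadFormPlus 4 (ZMod 2))).subtype

theorem tS_val (x : S8) : ((tS x : Sp8) : M8) = rho x := rfl

theorem tS_inj : Function.Injective tS := by
  intro A B h
  have h1 := congrArg Subtype.val h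
  exact Subtype.ext (Subtype.ext (Units.ext h1))

/-- the isometry with the given matrix -/
def isoOf (A B : M8) (h : A * B = 1) (h' : B * A = 1) (hA : ∀ v, quadFormPlus 4 (ZMod 2) (A.mulVec v) =
    quadFormPlus 4 (ZMod 2) v) : isometryGroup (ZMod 2) (quadFormPlus 4 (ZMod 2)) :=
  ⟨⟨A, B, h, h'⟩, ClassicalGeometry.IsoTransfer.mem_isometryGroup_iff.2 hA⟩

/-- squares are in `Ω` -/
def sqOf (A B : M8) (h : A * B = 1) (h' : B * A = 1) (hA : ∀ v, quadFormPlus 4 (ZMod 2) (A.mulVec v) =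
    quadFormPlus 4 (ZMod 2) v) : S8 :=
  ⟨isoOf A B h h' hA ^ 2, Subgroup.sq_mem_of_index_two (index_omega (F := ZMod 2) (ZMod.card 2) le_rfl center_s8) _⟩

theorem rho_sqOf (A B : M8) (h : A * B = 1) (h' : B * A = 1) (hA : ∀ v, quadFormPlus 4 (ZMod 2) (A.mulVec v) =
    quadFormPlus 4 (ZMod 2) v) : rho (sqOf A B h h' hA) = A * A := by
  change (((isoOf A B h h' hA ^ 2 : isometryGroup (ZMod 2) (quadFormPlus 4 (ZMod 2))) :
    GL (Fin 4 ⊕ Fin 4) (ZMod 2)) : M8) = _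
  rw [pow_two]
  rfl

theorem X1_iso : ∀ v, quadFormPlus 4 (ZMod 2) (X1.mulVec v) = quadFormPlus 4 (ZMod 2) v := by decide +kernel
theorem X2_iso : ∀ v, quadFormPlus 4 (ZMod 2) (X2.mulVec v) = quadFormPlus 4 (ZMod 2) v := by decide +kernel
theorem X3_iso : ∀ v, quadFormPlus 4 (ZMod 2) (X3.mulVec v) = quadFormPlus 4 (ZMod 2) v := by decide +kernel

def aO : S8 := sqOf X1 (X1 ^ 4) X1_i X1_i' X1_iso
def cO : S8 := sqOf X2 (X2 ^ 3) X2_i X2_i' X2_iso
def sO : S8 := sqOf X3 (X3 ^ 3) X3_i X3_i' X3_iso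
def bO : S8 := sO * aO * sO⁻¹

theorem rho_a : rho aO = a8 := (rho_sqOf _ _ _ _ _).trans X1_a
theorem rho_c : rho cO = c8 := (rho_sqOf _ _ _ _ _).trans X2_c
theorem rho_s : rho sO = s8 := (rho_sqOf _ _ _ _ _).trans X3_s

theorem rho_b : rho bO = b8 := by
  have h1 : rho sO * rho sO⁻¹ = 1 := by rw [← map_mul, mul_inv_cancel, map_one]
  rw [bO, map_mul, map_mul, rho_s, rho_a, s_a, ← rho_s, mul_assoc, h1, mul_one]

theorem aO_five : orderOf aO = 5 := by
  have hp : Fact (Nat.Prime 5) := ⟨by norm_num⟩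
  apply orderOf_eq_prime
  · exact rho_injective (by rw [map_pow, rho_a, a_five, map_one])
  · intro h
    exact a_ne (by rw [← rho_a, h, map_one])

theorem bO_five : orderOf bO = 5 := by
  have hp : Fact (Nat.Prime 5) := ⟨by norm_num⟩
  apply orderOf_eq_prime
  · exact rho_injective (by rw [map_pow, rho_b, b_five, map_one])
  · intro h
    exact b_ne_one (by rw [← rho_b, h, map_one])

theorem aO_bO : aO * bO = bO * aO := rho_injective (by rw [map_mul, map_mul, rho_a, rho_b, a_b])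

theorem cO_aO : cO * aO * cO⁻¹ = aO := conj_of (rho_injective (by rw [map_mul, map_mul, rho_c, rho_a, c_a]))

theorem cO_bO : cO * bO * cO⁻¹ = bO ^ (-1 : ℤ) := by
  have h1 : bO ^ (-1 : ℤ) = bO ^ 4 := by
    rw [_root_.zpow_neg_one, inv_eq_iff_mul_eq_one, ← pow_succ', show 4 + 1 = orderOf bO from bO_five.symm]
    exact pow_orderOf_eq_one _
  rw [h1]
  exact conj_of (rho_injective (by rw [map_mul, map_mul, map_pow, rho_c, rho_b, c_b]))

theorem bO_nmem : bO ∉ zpowers aO := by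
  intro h
  have h1 : bO ∈ Submonoid.powers aO := mem_powers_iff_mem_zpowers.2 h
  obtain ⟨i, hi⟩ := Submonoid.mem_powers_iff _ _ |>.1 h1
  exact b_ne i (by rw [← rho_b, ← rho_a, ← hi, map_pow])

/-- the centralizer in `Sp8(2)` -/
theorem cent_S {z : Sp8} (ha : z * tS aO = tS aO * z) (hb : z * tS bO = tS bO * z) :
    ∃ i j : ℕ, z = tS aO ^ i * tS bO ^ j := by
  have ha' := congrArg Subtype.val ha
  have hb' := congrArg Subtype.val hb
  rw [Submonoid.coe_mul, Submonoid.coe_mul, tS_val, rho_a] at ha'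
  rw [Submonoid.coe_mul, Submonoid.coe_mul, tS_val, rho_b] at hb'
  obtain ⟨i, j, hij⟩ := cent_sp ha' hb' (mem_sp.1 z.2)
  refine ⟨i, j, Subtype.ext ?_⟩
  rw [hij, ← rho_a, ← rho_b, ← tS_val, ← tS_val]
  rfl

theorem gd_s8 : GD S8 5 (-1) := by
  refine ⟨aO, bO, sO, cO, ⟨aO_five, bO_five, aO_bO, bO_nmem⟩, rfl, cO_aO, cO_bO, ?_, by norm_num⟩
  intro z hza hzb
  obtain ⟨i, j, hij⟩ := cent_S (z := tS z) (by rw [← map_mul, hza, map_mul]) (by rw [← map_mul, hzb, map_mul])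
  have h5 : z = aO ^ i * bO ^ j := tS_inj (by rw [hij, map_mul, map_pow, map_pow])
  rw [h5]
  exact mul_mem (mem_sup_left (pow_mem (mem_zpowers _) _)) (mem_sup_right (pow_mem (mem_zpowers _) _))

theorem gd_sp8 : GD Sp8 5 (-1) := by
  refine ⟨tS aO, tS bO, tS sO, tS cO, ⟨?_, ?_, ?_, ?_⟩, ?_, ?_, ?_, ?_, by norm_num⟩
  · rw [orderOf_injective _ tS_inj, aO_five]
  · rw [orderOf_injective _ tS_inj, bO_five]
  · rw [← map_mul, aO_bO, map_mul]
  · intro hb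
    apply bO_nmem
    obtain ⟨i, hi⟩ := mem_zpowers_iff.1 hb
    exact mem_zpowers_iff.2 ⟨i, tS_inj (by rw [map_zpow, hi])⟩
  · rw [← map_inv, ← map_mul, ← map_mul]
    rfl
  · rw [← map_inv, ← map_mul, ← map_mul, cO_aO]
  · rw [← map_inv, ← map_mul, ← map_mul, cO_bO, map_zpow]
  · intro z hza hzb
    obtain ⟨i, j, hij⟩ := cent_S hza hzb
    rw [hij]
    exact mul_mem (mem_sup_left (pow_mem (mem_zpowers _) _)) (mem_sup_right (pow_mem (mem_zpowers _) _))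

theorem gd_t8 : GD T8 5 (-1) := gd_s8.congr e8

theorem gd_pom4 (F : Type) [Field F] [Fintype F] (hF : Fintype.card F = 2) :
    GD (POmega F (quadFormPlus 4 F)) 5 (-1) := by
  obtain ⟨e⟩ : Nonempty (POmega (ZMod 2) (quadFormPlus 4 (ZMod 2)) ≃* POmega F (quadFormPlus 4 F)) :=
    UGT.U2.Rec.Congr.nonempty_POmega (ZMod.ringEquivOfPrime F Nat.prime_two hF) fun v => by
      simp [quadFormPlus, map_sum, map_mul]
  exact gd_t8.congr e

theorem gd_psp4 (F : Type) [Field F] [Fintype F] (hF : Fintype.card F = 2) : GD (PSp 4 F) 5 (-1) :=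
  (gd_sp8.quot (by norm_num)).congr
    (LieClassical.FieldTransfer.pspCongr 4 (ZMod.ringEquivOfPrime F Nat.prime_two hF))

end Cfsg.Agent.H354.Fac.OE
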