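import Cfsg.Agent.H354.Fac.TSl
import Cfsg.Agent.H81.SaxSp
import Cfsg.Agent.S0248
import Cfsg.Agent.UGT.U2.Rec.Congr

/-!
# The data in `Ω⁺12(2)` (helper354, S3679)
-/

set_option autoImplicit false
set_option maxRecDepth 100000

namespace Cfsg.Agent.H354.Fac

open Matrix Subgroup MT
open Cfsg.Agent.ClassicalGeometry.Reflection (mem_isometryGroup_iff)

abbrev Q12 : (Fin 6 ⊕ Fin 6 → ZMod 2) → ZMod 2 := quadFormPlus 6 (ZMod 2)

theorem q_eq (v : Fin 6 ⊕ Fin 6 → ZMod 2) : Q12 v = (v ∘ Sum.inl) ⬝ᵥ (v ∘ Sum.inr) := rfl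

theorem hpol (u v : Fin 6 ⊕ Fin 6 → ZMod 2) : QuadraticMap.polar Q12 u v = sympForm 6 (ZMod 2) u v := by
  have h1 : Matrix.J (Fin 6) (ZMod 2) *ᵥ v = Sum.elim (v ∘ Sum.inr) (v ∘ Sum.inl) := by
    rw [J_eq]
    conv_lhs => rw [← Sum.elim_comp_inl_inr v]
    rw [fromBlocks_mulVec]
    simp
  rw [sympForm, h1]
  conv_rhs => rw [← Sum.elim_comp_inl_inr u]
  rw [sumElim_dotProduct_sumElim, QuadraticMap.polar, q_eq, q_eq, q_eq]
  have h2 : (u + v) ∘ Sum.inl = u ∘ Sum.inl + v ∘ Sum.inl := rfl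
  have h3 : (u + v) ∘ Sum.inr = u ∘ Sum.inr + v ∘ Sum.inr := rfl
  rw [h2, h3, add_dotProduct, dotProduct_add, dotProduct_add, dotProduct_comm (v ∘ Sum.inl) (u ∘ Sum.inr)]
  ring

/-- the isometry of a linear map -/
theorem iso_of {A B : M6} (h : Aᵀ * B = 1) (v : Fin 6 ⊕ Fin 6 → ZMod 2) :
    Q12 ((fromBlocks A 0 0 B : M12) *ᵥ v) = Q12 v := by
  have h1 : (fromBlocks A 0 0 B : M12) *ᵥ v = Sum.elim (A *ᵥ (v ∘ Sum.inl)) (B *ᵥ (v ∘ Sum.inr)) := by
    conv_lhs => rw [← Sum.elim_comp_inl_inr v]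
    rw [fromBlocks_mulVec]
    simp
  rw [h1, q_eq, q_eq]
  change (A *ᵥ (v ∘ Sum.inl)) ⬝ᵥ (B *ᵥ (v ∘ Sum.inr)) = _
  rw [← vecMul_transpose, ← dotProduct_mulVec, mulVec_mulVec, h, one_mulVec]

/-- the embedding of `SL6(2)` -/
def emb : SL6 →* isometryGroup (ZMod 2) Q12 where
  toFun A := ⟨⟨fromBlocks (A : M6) 0 0 (adjugate (A : M6))ᵀ, fromBlocks (adjugate (A : M6)) 0 0 (A : M6)ᵀ, by
      rw [fromBlocks_multiply, ← transpose_mul]
      simp only [mul_zero, zero_mul, add_zero, zero_add, mul_adjugate, A.2, one_smul, transpose_one, fromBlocks_one],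
      by
      rw [fromBlocks_multiply, ← transpose_mul]
      simp only [mul_zero, zero_mul, add_zero, zero_add, adjugate_mul, A.2, one_smul, transpose_one, fromBlocks_one]⟩,
    (mem_isometryGroup_iff _ _).2 (iso_of (by rw [← transpose_mul, adjugate_mul, A.2, one_smul, transpose_one]))⟩
  map_one' := by
    apply Subtype.ext
    apply Units.ext
    change fromBlocks (1 : M6) 0 0 (adjugate (1 : M6))ᵀ = 1
    rw [adjugate_one, transpose_one, fromBlocks_one]
  map_mul' A B := by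
    apply Subtype.ext
    apply Units.ext
    change fromBlocks ((A : M6) * (B : M6)) 0 0 (adjugate ((A : M6) * (B : M6)))ᵀ =
      fromBlocks (A : M6) 0 0 (adjugate (A : M6))ᵀ * fromBlocks (B : M6) 0 0 (adjugate (B : M6))ᵀ
    rw [fromBlocks_multiply, adjugate_mul_distrib, transpose_mul]
    simp

theorem emb_val (A : SL6) : (((emb A : isometryGroup (ZMod 2) Q12) : GL (Fin 6 ⊕ Fin 6) (ZMod 2)) : M12) =
    fromBlocks (A : M6) 0 0 (adjugate (A : M6))ᵀ := rfl

/-- the embedding into `Ω` -/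
def embO : SL6 →* Omega (ZMod 2) Q12 := emb.codRestrict (commutator (isometryGroup (ZMod 2) Q12)) (fun A => by
  have h1 : (commutator SL6).map emb ≤ commutator (isometryGroup (ZMod 2) Q12) := by
    rw [commutator_def, Subgroup.map_commutator, commutator_def]
    exact Subgroup.commutator_mono le_top le_top
  apply h1
  rw [S0248.result 6 (by norm_num)]
  exact ⟨A, trivial, rfl⟩)

theorem embO_inj : Function.Injective embO := by
  intro A B h
  have h1 : emb A = emb B := congrArg Subtype.val h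
  have h2 : (((emb A : isometryGroup (ZMod 2) Q12) : GL (Fin 6 ⊕ Fin 6) (ZMod 2)) : M12) =
      ((emb B : isometryGroup (ZMod 2) Q12) : GL (Fin 6 ⊕ Fin 6) (ZMod 2)) := by rw [h1]
  rw [emb_val, emb_val, fromBlocks_inj] at h2
  exact Subtype.ext h2.1

theorem adj_eq {A B : M6} (h : A * B = 1) (hA : A.det = 1) : adjugate A = B := by
  calc adjugate A = adjugate A * (A * B) := by rw [h, mul_one]
    _ = (adjugate A * A) * B := by rw [mul_assoc]
    _ = B := by rw [adjugate_mul, hA, one_smul, one_mul]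

/-- into the symplectic group -/
def tS : Omega (ZMod 2) Q12 →* Sp12 := (H81.SaxSp.toSp hpol).comp (Omega (ZMod 2) Q12).subtype

theorem tS_inj : Function.Injective tS := by
  intro A B h
  have h1 := congrArg Subtype.val h
  exact Subtype.ext (Subtype.ext (Units.ext h1))

theorem tS_a : tS (embO aL) = aS := by
  apply Subtype.ext
  change fromBlocks (D g 1) 0 0 (adjugate (D g 1))ᵀ = a12
  rw [adj_eq (A := D g 1) (B := D gi 1) (by rw [D_mul, g_gi, one_mul, D_one]) aL.2, D_t, transpose_one]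
  rfl

theorem tS_b : tS (embO bL) = bS := by
  apply Subtype.ext
  change fromBlocks (D 1 g) 0 0 (adjugate (D 1 g))ᵀ = b12
  rw [adj_eq (A := D 1 g) (B := D 1 gi) (by rw [D_mul, g_gi, one_mul, D_one]) bL.2, D_t, transpose_one]
  rfl

/-- the centralizer in `Sp12(2)` -/
theorem cent_S {z : Sp12} (ha : z * aS = aS * z) (hb : z * bS = bS * z) : ∃ i j : ℕ, z = aS ^ i * bS ^ j := by
  obtain ⟨i, j, hij⟩ := cent_sp (z := (z : M12)) (congrArg Subtype.val ha) (congrArg Subtype.val hb)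
    (mem_sp.1 z.2)
  exact ⟨i, j, Subtype.ext hij⟩

theorem gd_om : GD (Omega (ZMod 2) Q12) 7 2 := by
  obtain ⟨h1, h2, h3, h4⟩ : Pr SL6 7 aL bL ∧ sL * aL * sL⁻¹ = bL ∧ cL * aL * cL⁻¹ = aL ∧ cL * bL * cL⁻¹ = bL ^ (2 : ℤ) :=
    gd_sl_data
  refine ⟨embO aL, embO bL, embO sL, embO cL, ⟨?_, ?_, ?_, ?_⟩, ?_, ?_, ?_, ?_, by norm_num⟩
  · rw [orderOf_injective _ embO_inj, h1.oa]
  · rw [orderOf_injective _ embO_inj, h1.ob]
  · rw [← map_mul, h1.comm, map_mul]
  · intro hb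
    apply h1.nmem
    obtain ⟨i, hi⟩ := mem_zpowers_iff.1 hb
    exact mem_zpowers_iff.2 ⟨i, embO_inj (by rw [map_zpow, hi])⟩
  · rw [← map_inv, ← map_mul, ← map_mul, h2]
  · rw [← map_inv, ← map_mul, ← map_mul, h3]
  · rw [← map_inv, ← map_mul, ← map_mul, h4, map_zpow]
  · intro z hza hzb
    obtain ⟨i, j, hij⟩ := cent_S (z := tS z) (by rw [← tS_a, ← map_mul, hza, map_mul])
      (by rw [← tS_b, ← map_mul, hzb, map_mul])
    have h5 : z = (embO aL) ^ i * (embO bL) ^ j := tS_inj (by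
      rw [hij, map_mul, map_pow, map_pow, tS_a, tS_b])
    rw [h5]
    exact mul_mem (mem_sup_left (pow_mem (mem_zpowers _) _)) (mem_sup_right (pow_mem (mem_zpowers _) _))

theorem gd_pom (F : Type) [Field F] [Fintype F] (hF : Fintype.card F = 2) :
    GD (POmega F (quadFormPlus 6 F)) 7 2 := by
  obtain ⟨e⟩ : Nonempty (POmega (ZMod 2) (quadFormPlus 6 (ZMod 2)) ≃* POmega F (quadFormPlus 6 F)) :=
    UGT.U2.Rec.Congr.nonempty_POmega (ZMod.ringEquivOfPrime F Nat.prime_two hF) fun v => by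
      simp [quadFormPlus, map_sum, map_mul]
  exact (gd_om.quot (by norm_num)).congr e

end Cfsg.Agent.H354.Fac
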