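import Cfsg.Agent.H354.Fac.TSp

/-!
# The data in `SL6(2)` (helper354, S3679)
-/

set_option autoImplicit false
set_option maxRecDepth 100000

namespace Cfsg.Agent.H354.Fac

open Matrix Subgroup MT

theorem det_of {A B : M6} (h : A * B = 1) : A.det = 1 := by
  have h1 : A.det * B.det = 1 := by rw [← det_mul, h, det_one]
  revert h1
  generalize A.det = u
  generalize B.det = v
  revert u v
  decide

abbrev SL6 : Type := Matrix.SpecialLinearGroup (Fin 6) (ZMod 2)

def aL : SL6 := ⟨D g 1, det_of (B := D gi 1) (by rw [D_mul, g_gi, one_mul, D_one])⟩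
def bL : SL6 := ⟨D 1 g, det_of (B := D 1 gi) (by rw [D_mul, g_gi, one_mul, D_one])⟩
def sL : SL6 := ⟨MT.sw, det_of MT.sw_sw⟩
def cL : SL6 := ⟨D 1 c, det_of (B := D 1 ci) (by rw [D_mul, c_ci, one_mul, D_one])⟩

theorem exists_right (z : Matrix.SpecialLinearGroup (Fin 6) (ZMod 2)) : ∃ y : M6, (z : M6) * y = 1 :=
  ⟨adjugate (z : M6), by rw [mul_adjugate, z.2, one_smul]⟩

theorem gd_sl_data : Pr SL6 7 aL bL ∧ sL * aL * sL⁻¹ = bL ∧ cL * aL * cL⁻¹ = aL ∧ cL * bL * cL⁻¹ = bL ^ (2 : ℤ) := by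
  have h7 : Nat.Prime 7 := by norm_num
  have hp : Fact (Nat.Prime 7) := ⟨h7⟩
  have e : ∀ {x y : SL6}, (x : M6) = y → x = y := fun h => Subtype.ext h
  have ha : orderOf aL = 7 := by
    apply orderOf_eq_prime
    · apply e
      change (D g 1) ^ 7 = 1
      rw [D_pow, g_seven, one_pow, D_one]
    · intro h
      have h1 : D g 1 = 1 := congrArg Subtype.val h
      rw [← D_one] at h1
      exact g_ne (D_inj h1).1
  have hb : orderOf bL = 7 := by
    apply orderOf_eq_prime
    · apply e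
      change (D 1 g) ^ 7 = 1
      rw [D_pow, g_seven, one_pow, D_one]
    · intro h
      have h1 : D 1 g = 1 := congrArg Subtype.val h
      rw [← D_one] at h1
      exact g_ne (D_inj h1).2
  refine ⟨⟨ha, hb, e ?_, ?_⟩, conj_of (e ?_), conj_of (e ?_), ?_⟩
  · change D g 1 * D 1 g = D 1 g * D g 1
    rw [D_mul, D_mul, one_mul, mul_one]
  · intro h
    have h1 : bL ∈ Submonoid.powers aL := mem_powers_iff_mem_zpowers.2 h
    obtain ⟨i, hi⟩ := Submonoid.mem_powers_iff _ _ |>.1 h1
    have h2 : (D g 1) ^ i = D 1 g := congrArg Subtype.val hi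
    rw [D_pow, one_pow] at h2
    exact g_ne (D_inj h2).2.symm
  · exact MT.sw_D g 1
  · change D 1 c * D g 1 = D g 1 * D 1 c
    rw [D_mul, D_mul, one_mul, mul_one, mul_one, one_mul]
  · have h1 : cL * bL * cL⁻¹ = bL ^ 2 := by
      apply conj_of
      apply e
      change D 1 c * D 1 g = (D 1 g) ^ 2 * D 1 c
      rw [D_pow, D_mul, D_mul, c_g, one_pow]
    rw [h1]
    rfl

theorem gd_sl_cent : ∀ z : SL6, z * aL = aL * z → z * bL = bL * z → z ∈ Q aL bL := by
  have e : ∀ {x y : SL6}, (x : M6) = y → x = y := fun h => Subtype.ext h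
  · intro z hza hzb
    obtain ⟨m, n, h1, h2, h3⟩ := inter (z := (z : M6)) fix_right fix_left (congrArg Subtype.val hza)
      (congrArg Subtype.val hzb)
    obtain ⟨y, hz⟩ := exists_right z
    have hm : ∃ i : Fin 7, m = g ^ (i : ℕ) := by
      rcases comm_g _ h2 with h4 | h4
      · exfalso
        rw [h1, h4] at hz
        have h5 : D 1 0 * (D 0 n * y) = D 1 0 := by rw [hz, mul_one]
        rw [← mul_assoc, D_mul, mul_zero, zero_mul, D_zero, zero_mul, ← D_zero] at h5
        exact absurd (D_inj h5).1 (by decide)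
      · exact h4
    have hn : ∃ i : Fin 7, n = g ^ (i : ℕ) := by
      rcases comm_g _ h3 with h4 | h4
      · exfalso
        rw [h1, h4] at hz
        have h5 : D 0 1 * (D m 0 * y) = D 0 1 := by rw [hz, mul_one]
        rw [← mul_assoc, D_mul, mul_zero, zero_mul, D_zero, zero_mul, ← D_zero] at h5
        exact absurd (D_inj h5).2 (by decide)
      · exact h4
    obtain ⟨i, rfl⟩ := hm
    obtain ⟨j, rfl⟩ := hn
    have h4 : z = aL ^ (i : ℕ) * bL ^ (j : ℕ) := by
      apply e
      rw [h1]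
      change _ = (D g 1) ^ (i : ℕ) * (D 1 g) ^ (j : ℕ)
      rw [D_pow, D_pow, D_mul, one_pow, one_pow, mul_one, one_mul]
    rw [h4]
    exact mul_mem (mem_sup_left (pow_mem (mem_zpowers _) _)) (mem_sup_right (pow_mem (mem_zpowers _) _))

theorem gd_sl : GD SL6 7 2 := by
  obtain ⟨h1, h2, h3, h4⟩ := gd_sl_data
  exact ⟨aL, bL, sL, cL, h1, h2, h3, h4, gd_sl_cent, by norm_num⟩

theorem gd_psl (F : Type) [Field F] [Fintype F] (hF : Fintype.card F = 2) :
    GD (Matrix.ProjectiveSpecialLinearGroup (Fin 6) F) 7 2 :=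
  (gd_sl.quot (by norm_num)).congr
    (LieClassical.FieldTransfer.pslCongr (ZMod.ringEquivOfPrime F Nat.prime_two hF))

end Cfsg.Agent.H354.Fac
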